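import Cfsg.Agent.Lib.DihedralBlock.Setup

/-!
# Recognising the data of a dihedral Sylow subgroup
-/

set_option autoImplicit false
set_option linter.unusedSectionVars false

namespace Cfsg.Agent.Lib.DihedralBlock

open Subgroup

variable {G : Type*} [Group G] [Finite G]

/-- From two generators. -/
theorem dsylow_of_generators {P : Sylow 2 G} {σ τ : G} {n : ℕ} (hn : 3 ≤ n)
    (hσ : σ ∈ (P : Subgroup G)) (hτ : τ ∈ (P : Subgroup G)) (hσo : orderOf σ = 2 ^ (n - 1))
    (hτo : orderOf τ = 2) (hrel : τ * σ * τ⁻¹ = σ⁻¹)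
    (hgen : closure ({σ, τ} : Set G) = (P : Subgroup G)) :
    DSylow P σ τ (2 ^ (n - 2)) := by
  have hq : 2 ≤ 2 ^ (n - 2) := le_self_pow₀ (by norm_num : (1 : ℕ) ≤ 2) (by omega)
  have hσo' : orderOf σ = 2 * 2 ^ (n - 2) := by
    rw [hσo, ← pow_succ', show n - 2 + 1 = n - 1 by omega]
  have hττ : τ * τ = 1 := by rw [← pow_two, ← hτo, pow_orderOf_eq_one]
  have hti : τ⁻¹ = τ := inv_eq_of_mul_eq_one_right hττ
  rw [hti] at hrel
  have hinv : ∀ z ∈ zpowers σ, τ * z * τ = z⁻¹ := by
    rintro _ ⟨i, rfl⟩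
    have h : (τ * σ * τ⁻¹) ^ i = (σ⁻¹) ^ i := by rw [hti, hrel]
    rw [conj_zpow, hti, inv_zpow] at h
    exact h
  have hsq : σ * σ ≠ 1 := fun h => by
    have := Nat.le_of_dvd (by norm_num) (orderOf_dvd_of_pow_eq_one (show σ ^ 2 = 1 by rw [pow_two, h]))
    omega
  have hτA : τ ∉ zpowers σ := by
    rintro ⟨i, hi⟩
    refine hsq (mul_eq_one_iff_eq_inv.2 ?_)
    rw [← hrel, ← hi]
    show σ = σ ^ i * σ * σ ^ i
    rw [← hi] at hττ
    calc σ = σ * (σ ^ i * σ ^ i) := by rw [show σ ^ i * σ ^ i = 1 from hττ, mul_one]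
      _ = σ ^ i * σ * σ ^ i := by
        rw [← mul_assoc, ((Commute.refl σ).zpow_right i).eq]
  have hdec : ∀ y ∈ (P : Subgroup G), y ∈ zpowers σ ∨ τ * y ∈ zpowers σ := by
    intro y hy
    rw [← hgen] at hy
    refine Subgroup.closure_induction (p := fun y _ => y ∈ zpowers σ ∨ τ * y ∈ zpowers σ)
      ?_ ?_ ?_ ?_ hy
    · intro x hx
      rcases hx with hx | hx
      · exact Or.inl (hx ▸ mem_zpowers σ)
      · rw [Set.mem_singleton_iff] at hx
        subst hx
        exact Or.inr (by rw [hττ]; exact one_mem _)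
    · exact Or.inl (one_mem _)
    · intro x z _ _ hx hz
      rcases hx with hx | hx <;> rcases hz with hz | hz
      · exact Or.inl (mul_mem hx hz)
      · refine Or.inr ?_
        have := mul_mem (inv_mem hx) hz
        rwa [← hinv x hx, show τ * x * τ * (τ * z) = τ * x * (τ * τ) * z by group, hττ, mul_one,
          mul_assoc] at this
      · exact Or.inr (by rw [← mul_assoc]; exact mul_mem hx hz)
      · refine Or.inl ?_
        have := mul_mem (inv_mem hx) hz
        rwa [← hinv _ hx, show τ * (τ * x) * τ * (τ * z) = τ * τ * x * (τ * τ) * z by group, hττ,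
          one_mul, mul_one] at this
    · intro x _ hx
      rcases hx with hx | hx
      · exact Or.inl (inv_mem hx)
      · refine Or.inr ?_
        have hxx : x * x = 1 := by
          have hx' : x = τ * (τ * x) := by rw [← mul_assoc, hττ, one_mul]
          rw [hx', show τ * (τ * x) * (τ * (τ * x)) = τ * (τ * x) * τ * (τ * x) by group,
            hinv _ hx, inv_mul_cancel]
        rwa [inv_eq_of_mul_eq_one_right hxx]
  refine ⟨hq, ⟨n - 2, rfl⟩, hσ, hτ, hσo', hττ, hrel, hdec, hτA, ?_⟩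
  classical
  let e : zpowers σ ⊕ zpowers σ → (P : Subgroup G) := Sum.elim
    (fun z => ⟨z, Subgroup.zpowers_le.2 hσ z.2⟩)
    (fun z => ⟨τ * z, mul_mem hτ (Subgroup.zpowers_le.2 hσ z.2)⟩)
  have he : Function.Bijective e := by
    constructor
    · rintro (⟨z, hz⟩ | ⟨z, hz⟩) (⟨w, hw⟩ | ⟨w, hw⟩) h <;>
        simp only [e, Sum.elim_inl, Sum.elim_inr, Subtype.mk.injEq] at h
      · subst h; rfl
      · exact absurd ((Subgroup.mul_mem_cancel_right _ hw).1 (h ▸ hz)) hτA
      · exact absurd ((Subgroup.mul_mem_cancel_right _ hz).1 (h.symm ▸ hw)) hτA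
      · obtain rfl := mul_left_cancel h; rfl
    · rintro ⟨y, hy⟩
      rcases hdec y hy with h | h
      · exact ⟨Sum.inl ⟨y, h⟩, rfl⟩
      · exact ⟨Sum.inr ⟨τ * y, h⟩, Subtype.ext (by
          show τ * (τ * y) = y
          rw [← mul_assoc, hττ, one_mul])⟩
  rw [← Nat.card_eq_of_bijective e he, Nat.card_sum, Nat.card_zpowers, hσo']
  ring

/-- From an isomorphism with a dihedral group: any rotation of maximal order will do. -/
theorem exists_dsylow_of_iso {P : Sylow 2 G} {n : ℕ} (hn : 3 ≤ n)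
    (hP : Nonempty ((P : Subgroup G) ≃* DihedralGroup (2 ^ (n - 1)))) {σ : G}
    (hσ : σ ∈ (P : Subgroup G)) (hσo : orderOf σ = 2 ^ (n - 1)) :
    ∃ τ : G, DSylow P σ τ (2 ^ (n - 2)) := by
  obtain ⟨e⟩ := hP
  have h4 : 4 ≤ 2 ^ (n - 1) :=
    (show (2 : ℕ) ^ 2 = 4 from rfl) ▸ Nat.pow_le_pow_right (by norm_num) (by omega)
  have ho : orderOf (e ⟨σ, hσ⟩) = 2 ^ (n - 1) := by
    rw [show orderOf (e ⟨σ, hσ⟩) = orderOf (⟨σ, hσ⟩ : (P : Subgroup G)) from
      orderOf_injective e.toMonoidHom e.injective _, Subgroup.orderOf_mk, hσo]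
  obtain ⟨i, hi⟩ : ∃ i, e ⟨σ, hσ⟩ = DihedralGroup.r i := by
    rcases h : e ⟨σ, hσ⟩ with i | i
    · exact ⟨i, rfl⟩
    · rw [h, DihedralGroup.orderOf_sr] at ho; omega
  let τ' : (P : Subgroup G) := e.symm (DihedralGroup.sr 0)
  have hτ2 : orderOf (τ' : G) = 2 := by
    rw [Subgroup.orderOf_coe, show orderOf τ' = orderOf (DihedralGroup.sr 0 :
      DihedralGroup (2 ^ (n - 1))) from orderOf_injective e.symm.toMonoidHom e.symm.injective _,
      DihedralGroup.orderOf_sr]
  have hrel : (τ' : G) * σ * (τ' : G)⁻¹ = σ⁻¹ := by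
    have : τ' * ⟨σ, hσ⟩ * τ'⁻¹ = (⟨σ, hσ⟩ : (P : Subgroup G))⁻¹ := e.injective (by
      simp only [map_mul, map_inv, τ', MulEquiv.apply_symm_apply, hi]
      simp)
    exact congrArg Subtype.val this
  refine ⟨τ', dsylow_of_generators hn hσ τ'.2 hσo hτ2 hrel (le_antisymm ?_ ?_)⟩
  · rw [closure_le]
    rintro x (rfl | rfl)
    exacts [hσ, τ'.2]
  · -- the subgroup generated has the full order
    intro y hy
    set H := closure ({σ, (τ' : G)} : Set G)
    have hσH : σ ∈ H := subset_closure (Set.mem_insert _ _)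
    have hτH : (τ' : G) ∈ H := subset_closure (Set.mem_insert_of_mem _ rfl)
    have hN : NeZero (2 ^ (n - 1)) := ⟨by positivity⟩
    have hrot : ∀ j, ((e.symm (DihedralGroup.r j) : (P : Subgroup G)) : G) ∈ H := by
      intro j
      have hpow : DihedralGroup.r j ∈ zpowers (DihedralGroup.r i : DihedralGroup (2 ^ (n - 1))) := by
        have hle : zpowers (DihedralGroup.r i : DihedralGroup (2 ^ (n - 1))) ≤
            zpowers (DihedralGroup.r 1) := Subgroup.zpowers_le.2
              ⟨(i.val : ℤ), by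
                show DihedralGroup.r 1 ^ ((i.val : ℕ) : ℤ) = DihedralGroup.r i
                rw [zpow_natCast, DihedralGroup.r_one_pow, ZMod.natCast_zmod_val]⟩
        have heq : zpowers (DihedralGroup.r i : DihedralGroup (2 ^ (n - 1))) =
            zpowers (DihedralGroup.r 1) := Subgroup.eq_of_le_of_card_ge hle (by
              rw [Nat.card_zpowers, Nat.card_zpowers, DihedralGroup.orderOf_r_one, ← hi, ho])
        rw [heq]
        exact ⟨(j.val : ℤ), by
          show DihedralGroup.r 1 ^ ((j.val : ℕ) : ℤ) = DihedralGroup.r j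
          rw [zpow_natCast, DihedralGroup.r_one_pow, ZMod.natCast_zmod_val]⟩
      obtain ⟨k, hk⟩ := mem_zpowers_iff.1 hpow
      rw [← hk, ← hi, map_zpow, MulEquiv.symm_apply_apply]
      exact zpow_mem hσH k
    have hgen : ∀ x, ((e.symm x : (P : Subgroup G)) : G) ∈ H := by
      rintro (j | j)
      · exact hrot j
      · rw [show (DihedralGroup.sr j : DihedralGroup (2 ^ (n - 1))) =
          DihedralGroup.sr 0 * DihedralGroup.r j by simp, map_mul]
        exact mul_mem hτH (hrot j)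
    have := hgen (e ⟨y, hy⟩)
    rwa [MulEquiv.symm_apply_apply] at this

end Cfsg.Agent.Lib.DihedralBlock
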