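import Mathlib

/-!
# The lattice argument for the exceptional characters of a dihedral block
-/

set_option autoImplicit false

namespace Cfsg.Agent.Lib.DihedralBlock

variable {α : Type*}

/-- An integer vector of square sum at most 3 has all entries of absolute value at most 1. -/
theorem entry_cases {T : Finset α} {v : α → ℤ} (h : ∑ a ∈ T, v a * v a ≤ 3) {a : α} (ha : a ∈ T) :
    v a = 0 ∨ v a = 1 ∨ v a = -1 := by
  have hle : v a * v a ≤ 3 :=
    (Finset.single_le_sum (f := fun x => v x * v x) (fun i _ => mul_self_nonneg (v i)) ha).trans h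
  have h1 : v a < 2 := by nlinarith
  have h2 : -2 < v a := by nlinarith
  omega

theorem support_card [DecidableEq α] {T : Finset α} {v : α → ℤ} {n : ℕ}
    (h : ∑ a ∈ T, v a * v a = n) (hn : n ≤ 3) :
    (T.filter fun a => v a ≠ 0).card = n := by
  have h' : ∀ a ∈ T.filter (fun a => v a ≠ 0), v a * v a = 1 := by
    intro a ha
    rw [Finset.mem_filter] at ha
    rcases entry_cases (h.trans_le (by exact_mod_cast hn)) ha.1 with e | e | e
    · exact absurd e ha.2
    · rw [e]; norm_num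
    · rw [e]; norm_num
  rw [← Finset.sum_filter_of_ne (p := fun a => v a ≠ 0)
    (fun a _ hne h0 => hne (by rw [h0, zero_mul]))] at h
  rw [Finset.sum_congr rfl h', Finset.sum_const, nsmul_one] at h
  exact_mod_cast h

/-- A vector of norm 2 meeting a vector of norm 3 in inner product 1, orthogonality to the degrees
included, is a difference of a common and a new coordinate. -/
theorem shape_two [DecidableEq α] {T : Finset α} {u v : α → ℤ} {d : α → ℕ} (hd : ∀ a ∈ T, 0 < d a)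
    (hu : ∑ a ∈ T, u a * u a = 3) (hv : ∑ a ∈ T, v a * v a = 2)
    (huv : ∑ a ∈ T, u a * v a = 1) (hdeg : ∑ a ∈ T, v a * (d a : ℤ) = 1) :
    ∃ a e, a ∈ T ∧ e ∈ T ∧ a ≠ e ∧ (u a = 1 ∨ u a = -1) ∧ u e = 0 ∧
      (d a : ℤ) - d e = u a ∧
      ∀ x ∈ T, v x = if x = a then u a else if x = e then -u a else 0 := by
  obtain ⟨p, r, hpr, hset⟩ := Finset.card_eq_two.1 (support_card (n := 2) hv (by norm_num))
  have hin : ∀ x, x ∈ T ∧ v x ≠ 0 ↔ x = p ∨ x = r := fun x => by
    simpa using Finset.ext_iff.1 hset x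
  obtain ⟨hp, hp0⟩ := (hin p).2 (Or.inl rfl)
  obtain ⟨hr, hr0⟩ := (hin r).2 (Or.inr rfl)
  have hsum : ∀ f : α → ℤ, ∑ x ∈ T, f x * v x = f p * v p + f r * v r := fun f => by
    rw [← Finset.sum_filter_of_ne (p := fun x => v x ≠ 0)
      (fun x _ hne h0 => hne (by rw [h0, mul_zero])), hset, Finset.sum_pair hpr]
  rw [hsum] at huv
  have hdeg' : (d p : ℤ) * v p + (d r : ℤ) * v r = 1 := by
    rw [← hdeg, ← hsum fun x => (d x : ℤ)]
    exact Finset.sum_congr rfl fun x _ => mul_comm _ _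
  have hvc : ∀ x ∈ T, v x = 0 ∨ v x = 1 ∨ v x = -1 := fun x hx => entry_cases (hv.trans_le (by norm_num)) hx
  have huc : ∀ x ∈ T, u x = 0 ∨ u x = 1 ∨ u x = -1 := fun x hx => entry_cases hu.le hx
  have hdp : (1 : ℤ) ≤ d p := by exact_mod_cast hd p hp
  have hdr : (1 : ℤ) ≤ d r := by exact_mod_cast hd r hr
  have key : ∀ a e, a ∈ T → e ∈ T → a ≠ e → (1 : ℤ) ≤ d a → (1 : ℤ) ≤ d e →
      (∀ x, x ∈ T ∧ v x ≠ 0 ↔ x = a ∨ x = e) →
      (d a : ℤ) * v a + (d e : ℤ) * v e = 1 → u a = v a → (v a = 1 ∨ v a = -1) →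
      (v e = 1 ∨ v e = -1) → u e = 0 →
      ∃ a e, a ∈ T ∧ e ∈ T ∧ a ≠ e ∧ (u a = 1 ∨ u a = -1) ∧ u e = 0 ∧
        (d a : ℤ) - d e = u a ∧
        ∀ x ∈ T, v x = if x = a then u a else if x = e then -u a else 0 := by
    intro a e ha he hae hda hde hsupp hdd hua hva hve hue
    refine ⟨a, e, ha, he, hae, hua ▸ hva, hue, ?_, fun x hx => ?_⟩
    · rcases hva with e1 | e1 <;> rcases hve with e2 | e2 <;> rw [e1, e2] at hdd <;>
        rw [hua, e1] <;> linarith
    · by_cases hxa : x = a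
      · rw [if_pos hxa, hxa, hua]
      rw [if_neg hxa]
      by_cases hxe : x = e
      · rw [if_pos hxe, hxe, hua]
        rcases hva with e1 | e1 <;> rcases hve with e2 | e2 <;> rw [e1, e2] at hdd ⊢ <;> linarith
      · rw [if_neg hxe]
        by_contra h0
        exact ((hsupp x).1 ⟨hx, h0⟩).elim hxa hxe
  have hvp := (hvc p hp).resolve_left hp0
  have hvr := (hvc r hr).resolve_left hr0
  have hup : u p = v p ∧ u r = 0 ∨ u r = v r ∧ u p = 0 := by
    rcases hvp with e1 | e1 <;> rcases hvr with e2 | e2 <;> rw [e1, e2] at huv <;>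
      rcases huc p hp with e3 | e3 | e3 <;> rcases huc r hr with e4 | e4 | e4 <;> omega
  rcases hup with ⟨h1, h2⟩ | ⟨h1, h2⟩
  · exact key p r hp hr hpr hdp hdr hin hdeg' h1 hvp hvr h2
  · exact key r p hr hp hpr.symm hdr hdp (fun x => (hin x).trans or_comm) (by linarith) h1 hvr hvp h2

/-- The coordinates of the exceptional lattice. -/
theorem lattice [DecidableEq α] (T : Finset α) (q : ℕ) (hq : 2 ≤ q) (hqe : 2 ∣ q)
    (v : ℕ → α → ℤ) (d : α → ℕ) (hd : ∀ a ∈ T, 0 < d a)
    (hgram : ∀ j ∈ Finset.Icc 1 q, ∀ k ∈ Finset.Icc 1 q,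
      ∑ a ∈ T, v j a * v k a = 1 + if j = k then (if j = q then 2 else 1) else 0)
    (hdeg : ∀ j ∈ Finset.Icc 1 q, ∑ a ∈ T, v j a * (d a : ℤ) = 1)
    (hnz : ∀ a ∈ T, ∃ j ∈ Finset.Icc 1 q, v j a ≠ 0) :
    ∃ (a b c : α) (e : ℕ → α) (s sb sc : ℤ),
      (s = 1 ∨ s = -1) ∧ (sb = 1 ∨ sb = -1) ∧ (sc = 1 ∨ sc = -1) ∧
      a ≠ b ∧ a ≠ c ∧ b ≠ c ∧
      a ∈ T ∧ b ∈ T ∧ c ∈ T ∧
      Set.InjOn e (Finset.Icc 1 (q - 1) : Finset ℕ) ∧
      (∀ i ∈ Finset.Icc 1 (q - 1), e i ∈ T ∧ e i ≠ a ∧ e i ≠ b ∧ e i ≠ c ∧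
        (d (e i) : ℤ) = d a - s) ∧
      (∀ x ∈ T, x = a ∨ x = b ∨ x = c ∨ ∃ i ∈ Finset.Icc 1 (q - 1), x = e i) ∧
      (∀ j ∈ Finset.Icc 1 q, v j a = s ∧ v j b = (if j = q then sb else 0) ∧
        v j c = (if j = q then sc else 0) ∧
        ∀ i ∈ Finset.Icc 1 (q - 1), v j (e i) = if j = i then -s else 0) := by
  classical
  have hqI : q ∈ Finset.Icc 1 q := Finset.mem_Icc.2 ⟨by omega, le_rfl⟩
  have hI : ∀ i ∈ Finset.Icc 1 (q - 1), i ∈ Finset.Icc 1 q ∧ i ≠ q := fun i hi => by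
    simp only [Finset.mem_Icc] at hi ⊢; omega
  have hu : ∑ a ∈ T, v q a * v q a = 3 := by rw [hgram q hqI q hqI]; simp
  have hu1 := hdeg q hqI
  have hne : T.Nonempty := by
    rcases T.eq_empty_or_nonempty with h | h
    · rw [h] at hu; simp at hu
    · exact h
  have hshape : ∀ i ∈ Finset.Icc 1 (q - 1), ∃ a e, a ∈ T ∧ e ∈ T ∧ a ≠ e ∧
      (v q a = 1 ∨ v q a = -1) ∧ v q e = 0 ∧ (d a : ℤ) - d e = v q a ∧
      ∀ x ∈ T, v i x = if x = a then v q a else if x = e then -v q a else 0 := by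
    intro i hi
    obtain ⟨hiq, hne'⟩ := hI i hi
    refine shape_two hd hu ?_ ?_ (hdeg i hiq)
    · rw [hgram i hiq i hiq]; simp [hne']
    · rw [hgram q hqI i hiq]; simp [hne'.symm]
  haveI : Nonempty α := ⟨hne.choose⟩
  choose! A E hA hE hAE hAs hEu hdiff hval using hshape
  have hAEk : ∀ j ∈ Finset.Icc 1 (q - 1), ∀ k ∈ Finset.Icc 1 (q - 1), A j ≠ E k := by
    intro j hj k hk h
    have h0 := hEu k hk
    rw [← h] at h0
    rcases hAs j hj with h1 | h1 <;> omega
  have hinner : ∀ j ∈ Finset.Icc 1 (q - 1), ∀ k ∈ Finset.Icc 1 (q - 1), j ≠ k →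
      (A j = A k ∧ E j ≠ E k) ∨ (A j ≠ A k ∧ E j = E k ∧ v q (A j) = v q (A k)) := by
    intro j hj k hk hjk
    have h := hgram j (hI j hj).1 k (hI k hk).1
    rw [if_neg hjk, add_zero,
      ← Finset.sum_subset (s₁ := {A j, E j}) (by
        intro x hx; simp only [Finset.mem_insert, Finset.mem_singleton] at hx
        rcases hx with rfl | rfl; exacts [hA j hj, hE j hj]) (fun x hx hx' => by
        simp only [Finset.mem_insert, Finset.mem_singleton, not_or] at hx'
        rw [hval j hj x hx, if_neg hx'.1, if_neg hx'.2, zero_mul]),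
      Finset.sum_pair (hAE j hj), hval j hj _ (hA j hj), hval j hj _ (hE j hj),
      hval k hk _ (hA j hj), hval k hk _ (hE j hj), if_pos rfl, if_neg (hAE j hj).symm, if_pos rfl,
      if_neg (hAEk j hj k hk), if_neg (hAEk k hk j hj).symm] at h
    by_cases h1 : A j = A k
    · refine Or.inl ⟨h1, fun h2 => ?_⟩
      rw [if_pos h1, if_pos h2, h1] at h
      rcases hAs k hk with e1 | e1 <;> rw [e1] at h <;> norm_num at h
    · refine Or.inr ⟨h1, ?_⟩
      rw [if_neg h1] at h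
      by_cases h2 : E j = E k
      · rw [if_pos h2] at h
        refine ⟨h2, ?_⟩
        rcases hAs j hj with e1 | e1 <;> rcases hAs k hk with e2 | e2 <;> rw [e1, e2] at h ⊢ <;>
          norm_num at h
      · rw [if_neg h2] at h; norm_num at h
  -- the common coordinate is the same for all vectors
  have hcard3 := support_card (n := 3) hu le_rfl
  have hAall : ∀ j ∈ Finset.Icc 1 (q - 1), ∀ k ∈ Finset.Icc 1 (q - 1), A j = A k := by
    by_contra! hcon
    obtain ⟨j, hj, k, hk, hjk⟩ := hcon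
    have hjk' : j ≠ k := fun h => hjk (h ▸ rfl)
    obtain ⟨-, hEjk, hsjk⟩ := (hinner j hj k hk hjk').resolve_left fun h => hjk h.1
    have hall : ∀ i ∈ Finset.Icc 1 (q - 1), E i = E j ∧ v q (A i) = v q (A j) := by
      intro i hi
      rcases eq_or_ne i j with rfl | hij
      · exact ⟨rfl, rfl⟩
      rcases eq_or_ne i k with rfl | hik
      · exact ⟨hEjk.symm, hsjk.symm⟩
      rcases hinner i hi j hj hij with ⟨h1, h2⟩ | ⟨-, h2, h3⟩
      · rcases hinner i hi k hk hik with ⟨h4, -⟩ | ⟨-, h5, -⟩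
        · exact absurd (h1.symm.trans h4) hjk
        · exact absurd (h5.trans hEjk.symm) h2
      · exact ⟨h2, h3⟩
    have hinj : Set.InjOn A (Finset.Icc 1 (q - 1) : Finset ℕ) := by
      intro i hi i' hi' h
      by_contra hne
      rcases hinner i (Finset.mem_coe.1 hi) i' (Finset.mem_coe.1 hi') hne with ⟨-, h2⟩ | ⟨h2, -⟩
      · exact h2 ((hall i (Finset.mem_coe.1 hi)).1.trans (hall i' (Finset.mem_coe.1 hi')).1.symm)
      · exact h2 h
    have hsub : (Finset.Icc 1 (q - 1)).image A ⊆ T.filter fun a => v q a ≠ 0 := by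
      intro x hx
      obtain ⟨i, hi, rfl⟩ := Finset.mem_image.1 hx
      refine Finset.mem_filter.2 ⟨hA i hi, ?_⟩
      rcases hAs i hi with e | e <;> omega
    have hle := Finset.card_le_card hsub
    rw [Finset.card_image_of_injOn hinj, hcard3, Nat.card_Icc] at hle
    have h2 : 1 < (Finset.Icc 1 (q - 1)).card := Finset.one_lt_card.2 ⟨j, hj, k, hk, hjk'⟩
    rw [Nat.card_Icc] at h2
    have himg : (Finset.Icc 1 (q - 1)).image A = T.filter fun a => v q a ≠ 0 := by
      refine Finset.eq_of_subset_of_card_le hsub ?_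
      rw [Finset.card_image_of_injOn hinj, hcard3, Nat.card_Icc]; omega
    have hterm : ∀ i ∈ Finset.Icc 1 (q - 1),
        v q (A i) * (d (A i) : ℤ) = v q (A j) * (d (E j) : ℤ) + 1 := by
      intro i hi
      have h1 := hdiff i hi
      rw [(hall i hi).1, (hall i hi).2] at h1
      rw [(hall i hi).2]
      rcases hAs j hj with e | e <;> rw [e] at h1 ⊢ <;> linarith
    rw [← Finset.sum_filter_of_ne (p := fun a => v q a ≠ 0)
      (fun x _ hne h0 => hne (by rw [h0, zero_mul])), ← himg, Finset.sum_image hinj,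
      Finset.sum_congr rfl hterm, Finset.sum_const, Nat.card_Icc, nsmul_eq_mul] at hu1
    have hq4 : q = 4 := by omega
    subst hq4
    push_cast at hu1
    omega
  have h1I : 1 ∈ Finset.Icc 1 (q - 1) := Finset.mem_Icc.2 ⟨le_rfl, by omega⟩
  set a := A 1 with ha
  have hAa : ∀ i ∈ Finset.Icc 1 (q - 1), A i = a := fun i hi => hAall i hi 1 h1I
  have hamem : a ∈ T.filter fun x => v q x ≠ 0 :=
    Finset.mem_filter.2 ⟨hA 1 h1I, by
      show v q (A 1) ≠ 0
      rcases hAs 1 h1I with e | e <;> omega⟩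
  obtain ⟨b, c, hbc, hbcset⟩ := Finset.card_eq_two.1
    (show ((T.filter fun x => v q x ≠ 0).erase a).card = 2 by
      rw [Finset.card_erase_of_mem hamem, hcard3])
  have hsupp : ∀ x, x ∈ T ∧ v q x ≠ 0 ↔ x = a ∨ x = b ∨ x = c := by
    intro x
    have := Finset.ext_iff.1 hbcset x
    simp only [Finset.mem_erase, Finset.mem_filter, Finset.mem_insert, Finset.mem_singleton] at this
    constructor
    · intro h
      by_cases hxa : x = a
      · exact Or.inl hxa
      · exact Or.inr (this.1 ⟨hxa, h⟩)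
    · rintro (rfl | h)
      · exact Finset.mem_filter.1 hamem
      · exact (this.2 h).2
  obtain ⟨hbT, hb0⟩ := (hsupp b).2 (Or.inr (Or.inl rfl))
  obtain ⟨hcT, hc0⟩ := (hsupp c).2 (Or.inr (Or.inr rfl))
  have hba : a ≠ b := by
    have := Finset.ext_iff.1 hbcset b
    simp only [Finset.mem_erase, Finset.mem_insert, true_or, iff_true] at this
    exact this.1.symm
  have hca : a ≠ c := by
    have := Finset.ext_iff.1 hbcset c
    simp only [Finset.mem_erase, Finset.mem_insert, Finset.mem_singleton, or_true, iff_true] at this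
    exact this.1.symm
  have hEnot : ∀ i ∈ Finset.Icc 1 (q - 1), E i ≠ a ∧ E i ≠ b ∧ E i ≠ c := by
    intro i hi
    have h0 := hEu i hi
    refine ⟨?_, ?_, ?_⟩ <;> intro h <;> rw [h] at h0
    exacts [(Finset.mem_filter.1 hamem).2 h0, hb0 h0, hc0 h0]
  have hEinj : Set.InjOn E (Finset.Icc 1 (q - 1) : Finset ℕ) := by
    intro i hi i' hi' h
    by_contra hne
    rcases hinner i (Finset.mem_coe.1 hi) i' (Finset.mem_coe.1 hi') hne with ⟨-, h2⟩ | ⟨h2, -⟩
    · exact h2 h
    · exact h2 ((hAa i (Finset.mem_coe.1 hi)).trans (hAa i' (Finset.mem_coe.1 hi')).symm)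
  refine ⟨a, b, c, E, v q a, v q b, v q c, hAs 1 h1I,
    (entry_cases hu.le hbT).resolve_left hb0, (entry_cases hu.le hcT).resolve_left hc0,
    hba, hca, hbc, hA 1 h1I, hbT, hcT, hEinj, fun i hi => ⟨hE i hi, (hEnot i hi).1, (hEnot i hi).2.1,
      (hEnot i hi).2.2, ?_⟩, ?_, ?_⟩
  · have := hdiff i hi
    rw [hAa i hi] at this
    linarith
  · intro x hx
    obtain ⟨j, hj, hj0⟩ := hnz x hx
    by_cases hjq : j = q
    · subst hjq
      rcases (hsupp x).1 ⟨hx, hj0⟩ with h | h | h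
      exacts [Or.inl h, Or.inr (Or.inl h), Or.inr (Or.inr (Or.inl h))]
    · have hji : j ∈ Finset.Icc 1 (q - 1) := by
        simp only [Finset.mem_Icc] at hj ⊢; omega
      rw [hval j hji x hx] at hj0
      by_cases h1 : x = A j
      · exact Or.inl (h1.trans (hAa j hji))
      · rw [if_neg h1] at hj0
        by_cases h2 : x = E j
        · exact Or.inr (Or.inr (Or.inr ⟨j, hji, h2⟩))
        · rw [if_neg h2] at hj0; exact absurd rfl hj0
  · intro j hj
    by_cases hjq : j = q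
    · subst hjq
      refine ⟨rfl, (if_pos rfl).symm, (if_pos rfl).symm, fun i hi => ?_⟩
      rw [if_neg (hI i hi).2.symm, hEu i hi]
    · have hji : j ∈ Finset.Icc 1 (q - 1) := by
        simp only [Finset.mem_Icc] at hj ⊢; omega
      rw [if_neg hjq, if_neg hjq, hval j hji a (hA 1 h1I), hval j hji b hbT, hval j hji c hcT,
        hAa j hji, if_pos rfl, if_neg hba.symm, if_neg hca.symm,
        if_neg (hEnot j hji).2.1.symm, if_neg (hEnot j hji).2.2.symm]
      refine ⟨rfl, rfl, rfl, fun i hi => ?_⟩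
      rw [hval j hji _ (hE i hi), hAa j hji, if_neg (hEnot i hi).1]
      by_cases hji' : j = i
      · subst hji'; simp
      · rw [if_neg hji', if_neg fun h => hji' (hEinj (Finset.mem_coe.2 hji) (Finset.mem_coe.2 hi) h.symm)]

end Cfsg.Agent.Lib.DihedralBlock
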