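import Cfsg.Agent.Lib.DihedralBlock.Centralizer
import Cfsg.Agent.Lib.DihedralBlock.Lattice
import Cfsg.Agent.Lib.Blocks.KleinPrincipal
import Cfsg.Agent.Lib.Blocks.PrincipalInner

/-!
# The principal 2-block of a group with dihedral Sylow 2-subgroup
-/

set_option autoImplicit false
set_option linter.unusedSectionVars false

namespace Cfsg.Agent.Lib.DihedralBlock

open Subgroup
open Cfsg
open Cfsg.Agent.Lib Cfsg.Agent.Lib.Blocks
open scoped ComplexConjugate

universe u

theorem geom_root {z : ℂ} {n : ℕ} (h : z ^ n = 1) :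
    ∑ l ∈ Finset.range n, z ^ l = if z = 1 then (n : ℂ) else 0 := by
  split_ifs with h1
  · subst h1; simp
  · rw [geom_sum_eq h1, h, sub_self, zero_div]

theorem fold_sum (q : ℕ) (hq : 0 < q) (f : ℕ → ℂ) :
    ∑ j ∈ Finset.range (2 * q), f j =
      f 0 + f q + ∑ i ∈ Finset.Icc 1 (q - 1), (f i + f (2 * q - i)) := by
  obtain ⟨p, rfl⟩ : ∃ p, q = p + 1 := ⟨q - 1, by omega⟩
  have hI : ∀ g : ℕ → ℂ, ∑ i ∈ Finset.Icc 1 (p + 1 - 1), g i = ∑ i ∈ Finset.range p, g (i + 1) := by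
    intro g
    rw [show p + 1 - 1 = p by omega, ← Finset.Ico_add_one_right_eq_Icc, Finset.sum_Ico_eq_sum_range,
      show p + 1 - 1 = p by omega]
    exact Finset.sum_congr rfl fun i _ => by rw [add_comm]
  rw [hI, two_mul, Finset.sum_range_add, Finset.sum_range_succ', Finset.sum_range_succ' (fun i => f (p + 1 + i)),
    Finset.sum_add_distrib,
    ← Finset.sum_range_reflect (fun i => f (p + 1 + (i + 1))) p]
  rw [Finset.sum_congr rfl (fun i (hi : i ∈ Finset.range p) =>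
    show f (p + 1 + (p - 1 - i + 1)) = f (p + 1 + (p + 1) - (i + 1)) from
      congrArg f (by have := Finset.mem_range.1 hi; omega))]
  rw [add_zero]
  ring

variable {G : Type u} [Group G] [Finite G] {M : Ideal AlgInt} [M.IsPrime]

theorem deg_spec (χ : IrrCharacter G) :
    ((charDegree (χ : G → ℂ) : ℕ) : ℂ) = (χ : G → ℂ) 1 ∧ 0 < charDegree (χ : G → ℂ) :=
  haveI := Fintype.ofFinite G
  ⟨(HeightZero.charDegree_eq χ).1, Nat.pos_of_ne_zero (HeightZero.charDegree_eq χ).2⟩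

/-- The values of a character at the powers of an element come from one family of eigenvalues. -/
theorem exists_roots_pow (χ : IrrCharacter G) (g : G) :
    ∃ (ι : Type) (_ : Fintype ι) (μ : ι → ℂ), (∀ i, μ i ^ orderOf g = 1) ∧
      ∀ l : ℕ, (χ : G → ℂ) (g ^ l) = ∑ i, μ i ^ l := by
  obtain ⟨d, ρ, -, hρ⟩ := χ.2
  obtain ⟨ι, _, b, μ, hm, hb⟩ := Chars.exists_eigenbasis ρ g
  refine ⟨ι, inferInstance, μ, hm, fun l => ?_⟩
  rw [← hρ]
  refine Chars.trace_eq_sum_of_eigenbasis _ b _ fun i => ?_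
  induction l with
  | zero => simp
  | succ l ih =>
    rw [pow_succ, map_mul, Module.End.mul_apply, hb i, map_smul, ih, smul_smul, pow_succ, mul_comm]

namespace DSylow

variable {P : Sylow 2 G} {σ τ : G} {q : ℕ} (D : DSylow P σ τ q)
include D

theorem apply_inv_rot (χ : IrrCharacter G) {z : G} (hz : z ∈ zpowers σ) :
    (χ : G → ℂ) z⁻¹ = (χ : G → ℂ) z := by
  conv_lhs => rw [← D.inverts hz]
  nth_rewrite 2 [← inv_eq_of_mul_eq_one_right D.ττ]
  exact Chars.irr_isClassFunction χ z τ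

theorem conj_apply_rot (χ : IrrCharacter G) {z : G} (hz : z ∈ zpowers σ) :
    conj ((χ : G → ℂ) z) = (χ : G → ℂ) z := by
  rw [← Chars.irr_inv, D.apply_inv_rot χ hz]

theorem pow_two_q : σ ^ (2 * q) = 1 := by rw [← D.orderσ, pow_orderOf_eq_one]

theorem rot_ne {l : ℕ} (hl : l ∈ Finset.Ioo 0 (2 * q)) : σ ^ l ≠ 1 := fun h => by
  rw [Finset.mem_Ioo] at hl
  have := Nat.le_of_dvd hl.1 (orderOf_dvd_of_pow_eq_one h)
  rw [D.orderσ] at this
  omega

theorem rot_inv {l : ℕ} (hl : l ≤ 2 * q) : σ ^ (2 * q - l) = (σ ^ l)⁻¹ :=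
  eq_inv_of_mul_eq_one_left (by rw [← pow_add, Nat.sub_add_cancel hl, D.pow_two_q])

theorem rot_eq_iff {l l' : ℕ} (hl : l < 2 * q) (hl' : l' < 2 * q) : σ ^ l = σ ^ l' ↔ l = l' :=
  ⟨fun h => pow_injOn_Iio_orderOf (by simpa [D.orderσ] using hl) (by simpa [D.orderσ] using hl') h,
    fun h => h ▸ rfl⟩

/-- The column products of the principal block at two rotations. -/
theorem sum_rot (hM : IsPModular 2 M) [DecidablePred (· ∈ principalBlock M G)] [Fintype (IrrCharacter G)]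
    {l l' : ℕ} (hl : l ∈ Finset.Ioo 0 (2 * q)) (hl' : l' ∈ Finset.Ioo 0 (2 * q)) :
    ∑ χ ∈ Finset.univ.filter (· ∈ principalBlock M G), (χ : G → ℂ) (σ ^ l) * (χ : G → ℂ) (σ ^ l') =
      (2 * q : ℂ) * ((if l' = l then 1 else 0) + (if l' = 2 * q - l then 1 else 0)) := by
  classical
  haveI : Fact (Nat.Prime 2) := ⟨Nat.prime_two⟩
  have hz : σ ^ l ∈ zpowers σ := pow_mem (mem_zpowers σ) l
  have hz' : σ ^ l' ∈ zpowers σ := pow_mem (mem_zpowers σ) l'
  have hx := D.exists_order_pow (D.rot_le hz)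
  have hy := D.exists_order_pow (D.rot_le hz')
  have hlr := Finset.mem_Ioo.1 hl
  have hlr' := Finset.mem_Ioo.1 hl'
  have key : ∑ χ ∈ Finset.univ.filter (· ∈ principalBlock M G),
      (χ : G → ℂ) (σ ^ l) * (χ : G → ℂ) (σ ^ l') =
      ∑ᶠ χ ∈ principalBlock M G, (χ : G → ℂ) (σ ^ l) * conj ((χ : G → ℂ) (σ ^ l')) := by
    rw [finsum_mem_eq_toFinset_sum]
    refine Finset.sum_congr (by ext; simp) fun χ _ => ?_
    rw [D.conj_apply_rot χ hz']
  rw [key]
  by_cases hc : IsConj (σ ^ l) (σ ^ l')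
  · have hval : ∀ χ : IrrCharacter G, (χ : G → ℂ) (σ ^ l') = (χ : G → ℂ) (σ ^ l) := fun χ =>
      Chars.isClassFunction_apply_eq (Chars.irr_isClassFunction χ) hc
    simp only [hval]
    rw [PrincipalInner.sum_principal_sq hM hx rfl]
    have hd : ((∑ᶠ ψ ∈ principalBlock M (centralizer ({σ ^ l} : Set G)),
        charDegree (ψ : centralizer ({σ ^ l} : Set G) → ℂ) ^ 2 : ℕ) : ℝ) =
        ((2 ^ (Nat.card (centralizer ({σ ^ l} : Set G))).factorization 2 : ℕ) : ℝ) := by
      rw [← PrincipalSection.sum_norm_sq_of_complement hM (D.index_core hz (D.rot_ne hl))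
        (y := 1) (by simp), finsum_mem_eq_toFinset_sum, finsum_mem_eq_toFinset_sum]
      push_cast
      refine Finset.sum_congr rfl fun ψ _ => ?_
      rw [← (deg_spec ψ).1, Complex.norm_natCast]
    rw [Nat.cast_inj.1 hd]
    by_cases hlq : l = q
    · subst hlq
      have : l' = l := by
        obtain ⟨g, hg⟩ := isConj_iff.1 hc
        refine (D.rot_eq_iff hlr'.2 hlr.2).1 ?_
        have h2 : σ ^ l' * σ ^ l' = 1 := by
          rw [← hg, show g * σ ^ l * g⁻¹ * (g * σ ^ l * g⁻¹) = g * (σ ^ l * σ ^ l) * g⁻¹ by group,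
            D.JJ]
          group
        exact ((D.sq_eq_one_iff hz').1 h2).resolve_left (D.rot_ne hl')
      rw [D.spec_J.2.2, if_pos this, if_pos (by omega)]
      push_cast
      ring
    · have hne : σ ^ l * σ ^ l ≠ 1 := D.pow_sq_ne hz (D.rot_ne hl) fun h =>
        hlq ((D.rot_eq_iff hlr.2 (by omega)).1 h)
      rw [(D.spec_rot hz hne).2.2]
      obtain ⟨g, hg⟩ := isConj_iff.1 hc
      rcases D.fusion hz hne (hg ▸ hz') with h | h <;> rw [hg] at h
      · rw [(D.rot_eq_iff hlr'.2 hlr.2).1 h, if_pos rfl, if_neg (by omega)]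
        push_cast
        ring
      · rw [← D.rot_inv hlr.2.le] at h
        rw [(D.rot_eq_iff hlr'.2 (by omega)).1 h, if_neg (by omega), if_pos rfl]
        push_cast
        ring
  · rw [PrincipalInner.sum_principal_conj_eq_zero hM hx hy hc, if_neg, if_neg, add_zero, mul_zero]
    · intro h
      refine hc (isConj_iff.2 ⟨τ, ?_⟩)
      rw [inv_eq_of_mul_eq_one_right D.ττ, D.inverts hz, h, D.rot_inv hlr.2.le]
    · rintro rfl; exact hc (IsConj.refl _)

/-- A character of the principal block does not vanish at `J`. -/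
theorem apply_J_ne (hM : IsPModular 2 M) {χ : IrrCharacter G} (hχ : χ ∈ principalBlock M G) :
    (χ : G → ℂ) D.J ≠ 0 := by
  haveI : Fact (Nat.Prime 2) := ⟨Nat.prime_two⟩
  intro h0
  have h : MemLocalIdeal M (centralChar (fun _ : G => (1 : ℂ)) D.J -
      centralChar (χ : G → ℂ) D.J) := hχ D.J
  rw [centralChar, centralChar, h0] at h
  simp only [mul_zero, zero_div, sub_zero, mul_one, div_one] at h
  have h2 := (Blocks.memLocalIdeal_natCast_iff hM _).1 h
  exact P.not_dvd_index (h2.trans (Subgroup.index_dvd_of_le D.P_le_centralizer_J))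

end DSylow

/-- The shape of the principal block. -/
structure Table {G : Type u} [Group G] (M : Ideal AlgInt) (σ : G) (q : ℕ) (ζ : ℂ)
    (χ₁ χ₂ χ₃ : IrrCharacter G) (e : ℕ → IrrCharacter G) (δ₁ δ₂ δ₃ : ℤ) : Prop where
  sign₁ : δ₁ = 1 ∨ δ₁ = -1
  sign₂ : δ₂ = 1 ∨ δ₂ = -1
  sign₃ : δ₃ = 1 ∨ δ₃ = -1
  ne₁ : (χ₁ : G → ℂ) ≠ fun _ => 1
  ne₂ : (χ₂ : G → ℂ) ≠ fun _ => 1
  ne₃ : (χ₃ : G → ℂ) ≠ fun _ => 1
  ne₁₂ : χ₁ ≠ χ₂
  ne₁₃ : χ₁ ≠ χ₃
  ne₂₃ : χ₂ ≠ χ₃
  e_ne : ∀ i ∈ Finset.Icc 1 (q - 1),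
    e i ≠ χ₁ ∧ e i ≠ χ₂ ∧ e i ≠ χ₃ ∧ (e i : G → ℂ) ≠ fun _ => 1
  e_inj : Set.InjOn e (Finset.Icc 1 (q - 1) : Finset ℕ)
  block : principalBlock M G = {χ : IrrCharacter G | (χ : G → ℂ) = (fun _ => 1) ∨ χ = χ₁ ∨
    χ = χ₂ ∨ χ = χ₃ ∨ ∃ i ∈ Finset.Icc 1 (q - 1), χ = e i}
  val₁ : ∀ l ∈ Finset.Ioo 0 (2 * q), (χ₁ : G → ℂ) (σ ^ l) = (δ₁ : ℂ)
  val₂ : ∀ l ∈ Finset.Ioo 0 (2 * q), (χ₂ : G → ℂ) (σ ^ l) = (δ₂ : ℂ) * (-1) ^ (l + 1)
  val₃ : ∀ l ∈ Finset.Ioo 0 (2 * q), (χ₃ : G → ℂ) (σ ^ l) = (δ₃ : ℂ) * (-1) ^ (l + 1)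
  valE : ∀ i ∈ Finset.Icc 1 (q - 1), ∀ l ∈ Finset.Ioo 0 (2 * q),
    (e i : G → ℂ) (σ ^ l) = (δ₁ : ℂ) * (ζ ^ (i * l) + (ζ ^ (i * l))⁻¹)
  regE : ∀ ρ : G, Odd (orderOf ρ) → ∀ i ∈ Finset.Icc 1 (q - 1),
    1 + (δ₁ : ℂ) * (χ₁ : G → ℂ) ρ = (δ₁ : ℂ) * (e i : G → ℂ) ρ
  reg : ∀ ρ : G, Odd (orderOf ρ) → 1 + (δ₁ : ℂ) * (χ₁ : G → ℂ) ρ =
    -(δ₂ : ℂ) * (χ₂ : G → ℂ) ρ - (δ₃ : ℂ) * (χ₃ : G → ℂ) ρ

theorem DSylow.exists_table {P : Sylow 2 G} {σ τ : G} {q : ℕ} (D : DSylow P σ τ q)
    (hM : IsPModular 2 M) {ζ : ℂ} (hζ : IsPrimitiveRoot ζ (2 * q)) :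
    ∃ (χ₁ χ₂ χ₃ : IrrCharacter G) (e : ℕ → IrrCharacter G) (δ₁ δ₂ δ₃ : ℤ),
      Table M σ q ζ χ₁ χ₂ χ₃ e δ₁ δ₂ δ₃ := by
  classical
  haveI : Fact (Nat.Prime 2) := ⟨Nat.prime_two⟩
  cases nonempty_fintype G
  have hq := D.two_le
  have h2q : 0 < 2 * q := by omega
  have hC : (2 * q : ℂ) ≠ 0 := by exact_mod_cast h2q.ne'
  have hroot : ∀ j : ℕ, (ζ ^ j) ^ (2 * q) = 1 := fun j => by
    rw [← pow_mul, mul_comm, pow_mul, hζ.pow_eq_one, one_pow]
  have hgeom : ∀ j : ℕ, ∑ l ∈ Finset.range (2 * q), (ζ ^ j) ^ l =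
      if 2 * q ∣ j then (2 * q : ℂ) else 0 := fun j => by
    rw [geom_root (hroot j)]
    simp only [hζ.pow_eq_one_iff_dvd, Nat.cast_mul, Nat.cast_ofNat]
  -- the integer coordinates
  have hint : ∀ (χ : IrrCharacter G) (j : ℕ), ∃ n : ℤ,
      ∑ l ∈ Finset.range (2 * q), (χ : G → ℂ) (σ ^ l) * ((ζ ^ j) ^ l - 1) = (2 * q : ℂ) * n := by
    intro χ j
    obtain ⟨ι, _, μ, hm, hval⟩ := exists_roots_pow χ σ
    rw [D.orderσ] at hm
    refine ⟨∑ i, ((if μ i * ζ ^ j = 1 then 1 else 0) - (if μ i = 1 then 1 else 0)), ?_⟩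
    push_cast
    rw [Finset.mul_sum]
    simp only [hval, Finset.sum_mul]
    rw [Finset.sum_comm]
    refine Finset.sum_congr rfl fun i _ => ?_
    simp only [mul_sub, ← mul_pow, mul_one, Finset.sum_sub_distrib]
    rw [geom_root (by rw [mul_pow, hm, hroot, one_mul]), geom_root (hm i)]
    push_cast
    split_ifs <;> ring
  choose A hA using hint
  let B := Finset.univ.filter (· ∈ principalBlock M G)
  let triv : IrrCharacter G := ⟨fun _ => 1, Chars.isIrrCharacter_one⟩
  have htrivB : triv ∈ B := Finset.mem_filter.2 ⟨Finset.mem_univ _, sameBlock_refl _⟩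
  have htrivA : ∀ j ∈ Finset.Icc 1 q, A triv j = -1 := by
    intro j hj
    have h := hA triv j
    simp only [triv, one_mul, Finset.sum_sub_distrib, Finset.sum_const, Finset.card_range,
      nsmul_eq_mul, mul_one] at h
    rw [hgeom, if_neg (fun hd => by
      have := Nat.le_of_dvd (by rw [Finset.mem_Icc] at hj; omega) hd
      rw [Finset.mem_Icc] at hj; omega), zero_sub] at h
    have h' : ((A triv j : ℤ) : ℂ) = ((-1 : ℤ) : ℂ) := by
      push_cast at h ⊢
      exact mul_left_cancel₀ hC (by rw [mul_neg_one]; exact h.symm)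
    exact_mod_cast h'
  -- symmetry of the coordinates
  have hsym : ∀ (χ : IrrCharacter G) (j : ℕ), j ≤ 2 * q → A χ (2 * q - j) = A χ j := by
    intro χ j hj
    have h' : ((A χ (2 * q - j) : ℤ) : ℂ) = (A χ j : ℂ) := by
      refine mul_left_cancel₀ hC ?_
      rw [← hA, ← hA]
      refine Finset.sum_nbij' (fun l => (2 * q - l) % (2 * q)) (fun l => (2 * q - l) % (2 * q))
        ?_ ?_ ?_ ?_ ?_
      · intro l _; exact Finset.mem_coe.2 (Finset.mem_range.2 (Nat.mod_lt _ h2q))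
      · intro l _; exact Finset.mem_coe.2 (Finset.mem_range.2 (Nat.mod_lt _ h2q))
      · intro l hl
        have hl := Finset.mem_range.1 (Finset.mem_coe.1 hl)
        rcases Nat.eq_zero_or_pos l with rfl | hl0
        · simp
        · show (2 * q - (2 * q - l) % (2 * q)) % (2 * q) = l
          rw [Nat.mod_eq_of_lt (by omega : 2 * q - l < 2 * q),
            Nat.mod_eq_of_lt (by omega : 2 * q - (2 * q - l) < 2 * q)]
          omega
      · intro l hl
        have hl := Finset.mem_range.1 (Finset.mem_coe.1 hl)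
        rcases Nat.eq_zero_or_pos l with rfl | hl0
        · simp
        · show (2 * q - (2 * q - l) % (2 * q)) % (2 * q) = l
          rw [Nat.mod_eq_of_lt (by omega : 2 * q - l < 2 * q),
            Nat.mod_eq_of_lt (by omega : 2 * q - (2 * q - l) < 2 * q)]
          omega
      · intro l hl
        have hl := (Finset.mem_range.1 hl).le
        rw [← pow_eq_pow_mod _ D.pow_two_q, D.rot_inv hl,
          D.apply_inv_rot χ (pow_mem (mem_zpowers σ) l), ← pow_eq_pow_mod _ (hroot j)]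
        congr 2
        have hne : ζ ≠ 0 := hζ.ne_zero h2q.ne'
        have h1 : (ζ ^ (2 * q - j)) ^ l * (ζ ^ j) ^ l = 1 := by
          rw [← mul_pow, ← pow_add, Nat.sub_add_cancel hj, hζ.pow_eq_one, one_pow]
        have h2 : (ζ ^ j) ^ (2 * q - l) * (ζ ^ j) ^ l = 1 := by
          rw [← pow_add, Nat.sub_add_cancel hl, hroot]
        exact mul_right_cancel₀ (pow_ne_zero _ (pow_ne_zero _ hne)) (h1.trans h2.symm)
    exact_mod_cast h'
  -- recovering the values
  have hrec : ∀ (χ : IrrCharacter G), ∀ l ∈ Finset.Ioo 0 (2 * q), (χ : G → ℂ) (σ ^ l) =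
      (A χ q : ℂ) * (-1) ^ l +
        ∑ i ∈ Finset.Icc 1 (q - 1), (A χ i : ℂ) * (ζ ^ (i * l) + (ζ ^ (i * l))⁻¹) := by
    intro χ l hl
    rw [Finset.mem_Ioo] at hl
    have h : (2 * q : ℂ) * ∑ j ∈ Finset.range (2 * q), (A χ j : ℂ) * (ζ ^ (2 * q - l)) ^ j =
        (2 * q : ℂ) * (χ : G → ℂ) (σ ^ l) := by
      simp only [Finset.mul_sum, ← mul_assoc, ← hA, Finset.sum_mul]
      rw [Finset.sum_comm, Finset.sum_eq_single l]
      · simp only [mul_assoc, ← Finset.mul_sum, sub_mul, one_mul, Finset.sum_sub_distrib]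
        rw [hgeom, if_neg (fun hd => by have := Nat.le_of_dvd (by omega) hd; omega), sub_zero,
          Finset.sum_congr rfl (fun j _ => show (ζ ^ j) ^ l * (ζ ^ (2 * q - l)) ^ j = 1 by
            rw [← pow_mul, mul_comm j, pow_mul, ← mul_pow, ← pow_add, Nat.add_sub_cancel' hl.2.le,
              hζ.pow_eq_one, one_pow]),
          Finset.sum_const, Finset.card_range, nsmul_one]
        push_cast
        ring
      · intro k hk hkl
        rw [Finset.mem_range] at hk
        simp only [mul_assoc, ← Finset.mul_sum, sub_mul, one_mul, Finset.sum_sub_distrib]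
        rw [hgeom, if_neg (fun hd => by have := Nat.le_of_dvd (by omega) hd; omega), sub_zero,
          Finset.sum_congr rfl (fun j _ => show (ζ ^ j) ^ k * (ζ ^ (2 * q - l)) ^ j =
              (ζ ^ (k + (2 * q - l))) ^ j by
            rw [← pow_mul, mul_comm j, pow_mul, ← mul_pow, ← pow_add]),
          hgeom, if_neg, mul_zero]
        rintro ⟨c, hc⟩
        rcases c with _ | _ | c
        · omega
        · omega
        · rw [Nat.mul_succ, Nat.mul_succ] at hc
          omega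
      · exact fun h => absurd (Finset.mem_range.2 hl.2) h
    rw [← mul_left_cancel₀ hC h, fold_sum q (by omega)]
    have hA0 : A χ 0 = 0 := by
      have h0 := hA χ 0
      simp only [pow_zero, one_pow, sub_self, mul_zero, Finset.sum_const_zero] at h0
      exact_mod_cast (mul_eq_zero.1 h0.symm).resolve_left hC
    rw [hA0, Int.cast_zero, zero_mul, zero_add]
    have hinvpow : ∀ i : ℕ, (ζ ^ (2 * q - l)) ^ i = (ζ ^ (i * l))⁻¹ := fun i => by
      refine eq_inv_of_mul_eq_one_left ?_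
      rw [mul_comm i l, pow_mul, ← mul_pow, ← pow_add, Nat.sub_add_cancel hl.2.le, hζ.pow_eq_one,
        one_pow]
    have hzq : ζ ^ q = -1 := by
      have h1 : ζ ^ q * ζ ^ q = 1 := by rw [← pow_add, ← two_mul, hζ.pow_eq_one]
      rcases mul_self_eq_one_iff.1 h1 with h | h
      · exact absurd ((hζ.pow_eq_one_iff_dvd q).1 h) fun hd => by
          have := Nat.le_of_dvd (by omega) hd; omega
      · exact h
    rw [hinvpow q, pow_mul, hzq, ← inv_pow, show (-1 : ℂ)⁻¹ = -1 by norm_num]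
    congr 1
    refine Finset.sum_congr rfl fun i hi => ?_
    have hi' := Finset.mem_Icc.1 hi
    rw [hsym χ i (by omega), hinvpow i, hinvpow (2 * q - i)]
    have : (ζ ^ ((2 * q - i) * l))⁻¹ = ζ ^ (i * l) := by
      refine inv_eq_of_mul_eq_one_left ?_
      rw [← pow_add, ← add_mul, Nat.add_sub_cancel' (by omega), pow_mul, hζ.pow_eq_one, one_pow]
    rw [this]
    ring
  -- degrees
  have hdeg : ∀ ρ : G, Odd (orderOf ρ) → ∀ j : ℕ,
      ∑ χ ∈ B, (A χ j : ℂ) * (χ : G → ℂ) ρ = 0 := by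
    intro ρ hρ j
    refine mul_left_cancel₀ hC ?_
    simp only [Finset.mul_sum, ← mul_assoc, ← hA, mul_zero, Finset.sum_mul]
    rw [Finset.sum_comm]
    refine Finset.sum_eq_zero fun l hl => ?_
    rcases Nat.eq_zero_or_pos l with rfl | hl0
    · simp
    have hne : σ ^ l ≠ 1 := D.rot_ne (Finset.mem_Ioo.2 ⟨hl0, Finset.mem_range.1 hl⟩)
    obtain ⟨k, hk⟩ := D.exists_order_pow (D.rot_le (pow_mem (mem_zpowers σ) l))
    have h2 : 2 ∣ orderOf (σ ^ l) := by
      rcases k with _ | k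
      · rw [pow_zero, orderOf_eq_one_iff] at hk; exact absurd hk hne
      · rw [hk]; exact dvd_pow_self 2 (Nat.succ_ne_zero k)
    have h := weak_block_orth hM (PrincipalSection.isPBlock_principalBlock M G)
      (g := ρ) (fun h => Nat.not_even_iff_odd.2 hρ (even_iff_two_dvd.2 h)) h2
    rw [finsum_mem_eq_toFinset_sum] at h
    simp only [D.conj_apply_rot _ (pow_mem (mem_zpowers σ) l)] at h
    rw [Finset.sum_congr rfl (g := fun χ : IrrCharacter G =>
      ((ζ ^ j) ^ l - 1) * ((χ : G → ℂ) ρ * (χ : G → ℂ) (σ ^ l))) (fun χ _ => by ring),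
      ← Finset.mul_sum]
    refine mul_eq_zero_of_right _ (Eq.trans ?_ h)
    exact Finset.sum_congr (by ext; simp [B]) fun _ _ => rfl
  -- the Gram matrix
  have hgram : ∀ j ∈ Finset.Icc 1 q, ∀ k ∈ Finset.Icc 1 q, ∑ χ ∈ B, A χ j * A χ k =
      2 + if j = k then (if j = q then 2 else 1) else 0 := by
    intro j hj k hk
    rw [Finset.mem_Icc] at hj hk
    have h : ((2 * q : ℂ) * (2 * q : ℂ)) * ((∑ χ ∈ B, A χ j * A χ k : ℤ) : ℂ) =
        ((2 * q : ℂ) * (2 * q : ℂ)) *
          ((2 + if j = k then (if j = q then 2 else 1) else 0 : ℤ) : ℂ) := by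
      push_cast
      rw [Finset.mul_sum, Finset.sum_congr rfl (fun χ _ => show
        (2 * q : ℂ) * (2 * q : ℂ) * ((A χ j : ℂ) * (A χ k : ℂ)) =
          ((2 * q : ℂ) * (A χ j : ℂ)) * ((2 * q : ℂ) * (A χ k : ℂ)) by ring)]
      simp only [← hA, Finset.sum_mul, Finset.mul_sum]
      rw [Finset.sum_comm]
      conv_lhs => enter [2, l]; rw [Finset.sum_comm]
      have hinner : ∀ l ∈ Finset.range (2 * q), ∑ l' ∈ Finset.range (2 * q), ∑ χ ∈ B,
          (χ : G → ℂ) (σ ^ l) * ((ζ ^ j) ^ l - 1) * ((χ : G → ℂ) (σ ^ l') * ((ζ ^ k) ^ l' - 1)) =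
          (2 * q : ℂ) * (((ζ ^ j) ^ l - 1) *
            (((ζ ^ k) ^ l - 1) + ((ζ ^ (2 * q - k)) ^ l - 1))) := by
        intro l hl
        rcases Nat.eq_zero_or_pos l with rfl | hl0
        · simp
        have hlI : l ∈ Finset.Ioo 0 (2 * q) := Finset.mem_Ioo.2 ⟨hl0, Finset.mem_range.1 hl⟩
        have hl' := Finset.mem_range.1 hl
        rw [Finset.sum_congr rfl (g := fun l' => ((ζ ^ j) ^ l - 1) * ((ζ ^ k) ^ l' - 1) *
          ((2 * q : ℂ) * ((if l' = l then 1 else 0) + (if l' = 2 * q - l then 1 else 0)))) ?_]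
        · simp only [mul_add, Finset.sum_add_distrib, mul_ite, mul_one, mul_zero,
            Finset.sum_ite_eq', Finset.mem_range, if_pos hl', if_pos (by omega : 2 * q - l < 2 * q)]
          rw [show (ζ ^ k) ^ (2 * q - l) = (ζ ^ (2 * q - k)) ^ l by
            have hne : ζ ≠ 0 := hζ.ne_zero h2q.ne'
            refine mul_right_cancel₀ (pow_ne_zero l (pow_ne_zero k hne)) ?_
            rw [← pow_add, Nat.sub_add_cancel hl'.le, hroot, ← mul_pow, ← pow_add,
              Nat.sub_add_cancel (by omega), hζ.pow_eq_one, one_pow]]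
          ring
        · intro l' hl''
          rcases Nat.eq_zero_or_pos l' with rfl | hl0'
          · simp
          rw [← D.sum_rot hM hlI (Finset.mem_Ioo.2 ⟨hl0', Finset.mem_range.1 hl''⟩), Finset.mul_sum]
          exact Finset.sum_congr rfl fun χ _ => by ring
      rw [Finset.sum_comm, Finset.sum_congr rfl hinner, ← Finset.mul_sum, Finset.sum_congr rfl (g := fun l =>
        (ζ ^ (j + k)) ^ l + (ζ ^ (j + (2 * q - k))) ^ l - 2 * (ζ ^ j) ^ l - (ζ ^ k) ^ l -
          (ζ ^ (2 * q - k)) ^ l + 2) (fun l _ => by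
        simp only [pow_add, mul_pow]; ring)]
      simp only [Finset.sum_add_distrib, Finset.sum_sub_distrib, ← Finset.mul_sum, Finset.sum_const,
        Finset.card_range, hgeom, nsmul_eq_mul, Nat.cast_mul, Nat.cast_ofNat]
      have n1 : ¬ 2 * q ∣ j := fun hd => by have := Nat.le_of_dvd (by omega) hd; omega
      have n2 : ¬ 2 * q ∣ k := fun hd => by have := Nat.le_of_dvd (by omega) hd; omega
      have n3 : ¬ 2 * q ∣ 2 * q - k := fun hd => by have := Nat.le_of_dvd (by omega) hd; omega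
      rw [if_neg n1, if_neg n2, if_neg n3]
      by_cases hjk : j = k
      · subst hjk
        have p1 : 2 * q ∣ j + (2 * q - j) := ⟨1, by omega⟩
        rw [if_pos rfl, if_pos p1]
        by_cases hjq : j = q
        · rw [if_pos hjq, if_pos ⟨1, by omega⟩]; ring
        · rw [if_neg hjq, if_neg (fun hd => by have := Nat.le_of_dvd (by omega) hd; omega)]; ring
      · have p1 : ¬ 2 * q ∣ j + (2 * q - k) := by
          rintro ⟨c, hc⟩
          rcases c with _ | _ | c
          · omega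
          · omega
          · rw [Nat.mul_succ, Nat.mul_succ] at hc; omega
        have p2 : ¬ 2 * q ∣ j + k := fun hd => by have := Nat.le_of_dvd (by omega) hd; omega
        rw [if_neg hjk, if_neg p1, if_neg p2]; ring
    exact_mod_cast mul_left_cancel₀ (mul_ne_zero hC hC) h
  -- the lattice
  let T := B.erase triv
  have hTB : ∀ χ ∈ T, χ ∈ principalBlock M G := fun χ hχ =>
    (Finset.mem_filter.1 (Finset.mem_of_mem_erase hχ)).2
  have hsplit : ∀ f : IrrCharacter G → ℂ, ∑ χ ∈ B, f χ = f triv + ∑ χ ∈ T, f χ := fun f =>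
    (Finset.add_sum_erase _ _ htrivB).symm
  have hdegT : ∀ ρ : G, Odd (orderOf ρ) → ∀ j ∈ Finset.Icc 1 q,
      ∑ χ ∈ T, (A χ j : ℂ) * (χ : G → ℂ) ρ = 1 := by
    intro ρ hρ j hj
    have h := hdeg ρ hρ j
    rw [hsplit, htrivA j hj] at h
    simp only [triv, mul_one, Int.cast_neg, Int.cast_one] at h
    linear_combination h
  obtain ⟨a, b, c, e, s, sb, sc, hs, hsb, hsc, hab, hac, hbc, haT, hbT, hcT, hinj, he, hcov, hval⟩ :=
    lattice T q hq D.even_q (fun j χ => A χ j) (fun χ => charDegree (χ : G → ℂ))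
      (fun χ _ => (deg_spec χ).2)
      (fun j hj k hk => by
        have h := hgram j hj k hk
        rw [← Finset.add_sum_erase _ _ htrivB, htrivA j hj, htrivA k hk] at h
        linarith)
      (fun j hj => by
        have h := hdegT 1 (by simp) j hj
        simp only [← (deg_spec _).1] at h
        exact_mod_cast h)
      (fun χ hχ => by
        by_contra! h0
        refine D.apply_J_ne hM (hTB χ hχ) ?_
        have hqI : q ∈ Finset.Ioo 0 (2 * q) := Finset.mem_Ioo.2 ⟨by omega, by omega⟩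
        rw [hrec χ q hqI, h0 q (Finset.mem_Icc.2 ⟨by omega, le_rfl⟩), Int.cast_zero, zero_mul,
          zero_add]
        refine Finset.sum_eq_zero fun i hi => ?_
        rw [h0 i (by rw [Finset.mem_Icc] at hi ⊢; omega), Int.cast_zero, zero_mul])
  have hI : ∀ i ∈ Finset.Icc 1 (q - 1), i ∈ Finset.Icc 1 q ∧ i ≠ q := fun i hi => by
    simp only [Finset.mem_Icc] at hi ⊢; omega
  have hqq : q ∈ Finset.Icc 1 q := Finset.mem_Icc.2 ⟨by omega, le_rfl⟩
  have hneT : ∀ χ ∈ T, (χ : G → ℂ) ≠ fun _ => 1 := fun χ hχ h =>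
    Finset.ne_of_mem_erase hχ (Subtype.ext h)
  refine ⟨a, b, c, e, -s, -sb, -sc,
    { sign₁ := by omega
      sign₂ := by omega
      sign₃ := by omega
      ne₁ := hneT a haT
      ne₂ := hneT b hbT
      ne₃ := hneT c hcT
      ne₁₂ := hab
      ne₁₃ := hac
      ne₂₃ := hbc
      e_ne := fun i hi => ⟨(he i hi).2.1, (he i hi).2.2.1, (he i hi).2.2.2.1, hneT _ (he i hi).1⟩
      e_inj := hinj
      block := ?_, val₁ := ?_, val₂ := ?_, val₃ := ?_, valE := ?_, regE := ?_, reg := ?_ }⟩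
  · ext χ
    have hmem : χ ∈ principalBlock M G ↔ χ = triv ∨ χ ∈ T := by
      rw [← Finset.mem_insert, Finset.insert_erase htrivB]
      simp [B]
    rw [hmem]
    show _ ↔ ((χ : G → ℂ) = (fun _ => 1) ∨ χ = a ∨ χ = b ∨ χ = c ∨ _)
    constructor
    · rintro (rfl | h)
      · exact Or.inl rfl
      · exact Or.inr (hcov χ h)
    · rintro (h | h | h | h | ⟨i, hi, h⟩)
      · exact Or.inl (Subtype.ext h)
      all_goals subst h
      exacts [Or.inr haT, Or.inr hbT, Or.inr hcT, Or.inr (he i hi).1]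
  · intro l hl
    have hl' := Finset.mem_Ioo.1 hl
    rw [hrec a l hl, (hval q hqq).1]
    -- all the non-zero exponents together give -1
    have h0 : ∑ j ∈ Finset.range (2 * q), (ζ ^ l) ^ j = 0 := by
      rw [hgeom, if_neg (fun hd => by have := Nat.le_of_dvd (by omega) hd; omega)]
    rw [fold_sum q (by omega)] at h0
    have hzq : (ζ ^ l) ^ q = (-1) ^ l := by
      have h1 : ζ ^ q * ζ ^ q = 1 := by rw [← pow_add, ← two_mul, hζ.pow_eq_one]
      have h2 : ζ ^ q = -1 := (mul_self_eq_one_iff.1 h1).resolve_left fun h => by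
        have := Nat.le_of_dvd (by omega) ((hζ.pow_eq_one_iff_dvd q).1 h); omega
      rw [← pow_mul, mul_comm, pow_mul, h2]
    rw [Finset.sum_congr rfl (g := fun i => (s : ℂ) * ((ζ ^ l) ^ i + (ζ ^ l) ^ (2 * q - i)))
      (fun i hi => ?_), ← Finset.mul_sum]
    · rw [pow_zero, hzq] at h0
      push_cast
      linear_combination (s : ℂ) * h0
    · rw [(hval i (hI i hi).1).1]
      have hi' := Finset.mem_Icc.1 hi
      congr 2
      · rw [← pow_mul, mul_comm]
      · refine inv_eq_of_mul_eq_one_right ?_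
        rw [← pow_mul, ← pow_add, mul_comm i l, ← mul_add, Nat.add_sub_cancel' (by omega),
          mul_comm, pow_mul, hζ.pow_eq_one, one_pow]
  · intro l hl
    rw [hrec b l hl, (hval q hqq).2.1, if_pos rfl, Finset.sum_eq_zero (fun i hi => by
      rw [(hval i (hI i hi).1).2.1, if_neg (hI i hi).2, Int.cast_zero, zero_mul])]
    push_cast
    ring
  · intro l hl
    rw [hrec c l hl, (hval q hqq).2.2.1, if_pos rfl, Finset.sum_eq_zero (fun i hi => by
      rw [(hval i (hI i hi).1).2.2.1, if_neg (hI i hi).2, Int.cast_zero, zero_mul])]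
    push_cast
    ring
  · intro i hi l hl
    rw [hrec (e i) l hl, (hval q hqq).2.2.2 i hi, if_neg (hI i hi).2.symm, Int.cast_zero, zero_mul,
      zero_add, Finset.sum_eq_single i]
    · rw [(hval i (hI i hi).1).2.2.2 i hi, if_pos rfl]
    · intro k hk hki
      rw [(hval k (hI k hk).1).2.2.2 i hi, if_neg hki, Int.cast_zero, zero_mul]
    · exact fun h => absurd hi h
  · intro ρ hρ i hi
    have h := hdegT ρ hρ i (hI i hi).1
    rw [← Finset.sum_subset (s₁ := {a, e i}) (fun x hx => by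
        rcases Finset.mem_insert.1 hx with rfl | hx
        · exact haT
        · rw [Finset.mem_singleton.1 hx]; exact (he i hi).1)
      (fun x hx hx' => by
        simp only [Finset.mem_insert, Finset.mem_singleton, not_or] at hx'
        rcases hcov x hx with rfl | rfl | rfl | ⟨k, hk, rfl⟩
        · exact absurd rfl hx'.1
        · rw [(hval i (hI i hi).1).2.1, if_neg (hI i hi).2, Int.cast_zero, zero_mul]
        · rw [(hval i (hI i hi).1).2.2.1, if_neg (hI i hi).2, Int.cast_zero, zero_mul]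
        · rw [(hval i (hI i hi).1).2.2.2 k hk, if_neg (fun h => hx'.2 (by rw [h])), Int.cast_zero,
            zero_mul]),
      Finset.sum_pair (he i hi).2.1.symm, (hval i (hI i hi).1).1,
      (hval i (hI i hi).1).2.2.2 i hi, if_pos rfl] at h
    push_cast at h ⊢
    linear_combination -h
  · intro ρ hρ
    have h := hdegT ρ hρ q hqq
    rw [← Finset.sum_subset (s₁ := {a, b, c}) (fun x hx => by
        simp only [Finset.mem_insert, Finset.mem_singleton] at hx
        rcases hx with rfl | rfl | rfl <;> assumption)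
      (fun x hx hx' => by
        simp only [Finset.mem_insert, Finset.mem_singleton, not_or] at hx'
        rcases hcov x hx with rfl | rfl | rfl | ⟨k, hk, rfl⟩
        · exact absurd rfl hx'.1
        · exact absurd rfl hx'.2.1
        · exact absurd rfl hx'.2.2
        · rw [(hval q hqq).2.2.2 k hk, if_neg (hI k hk).2.symm, Int.cast_zero, zero_mul]),
      Finset.sum_insert (by simp [hab, hac]), Finset.sum_pair hbc, (hval q hqq).1,
      (hval q hqq).2.1, (hval q hqq).2.2.1, if_pos rfl, if_pos rfl] at h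
    push_cast at h ⊢
    linear_combination -h

end Cfsg.Agent.Lib.DihedralBlock
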