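import Cfsg.Agent.Lib.DihedralBlock.Count
import Cfsg.Agent.Lib.DihedralBlock.Table
import Cfsg.Agent.Lib.KleinOrder.Formula

/-!
# The order formula for one class of involutions
-/

set_option autoImplicit false
set_option linter.unusedSectionVars false

namespace Cfsg.Agent.Lib.DihedralBlock

open Subgroup
open Cfsg
open Cfsg.Agent.Lib Cfsg.Agent.Lib.Blocks
open scoped ComplexConjugate

universe u

variable {G : Type u} [Group G] [Finite G]

/-- Pairs of conjugating elements against pairs of involutions. -/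
theorem card_conj_pairs {J : G} (hJ2 : orderOf J = 2)
    (hone : ∀ a : G, orderOf a = 2 → IsConj J a) (R : G → G → Prop) :
    Nat.card {z : G × G // R (z.1 * J * z.1⁻¹) (z.2 * J * z.2⁻¹)} =
      Nat.card {w : G × G // orderOf w.1 = 2 ∧ orderOf w.2 = 2 ∧ R w.1 w.2} *
        (Nat.card (centralizer ({J} : Set G)) * Nat.card (centralizer ({J} : Set G))) := by
  let C := centralizer ({J} : Set G)
  let S := {w : G × G // orderOf w.1 = 2 ∧ orderOf w.2 = 2 ∧ R w.1 w.2}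
  let T := {z : G × G // R (z.1 * J * z.1⁻¹) (z.2 * J * z.2⁻¹)}
  have hord : ∀ v : G, orderOf (v * J * v⁻¹) = 2 := fun v => by
    rw [show v * J * v⁻¹ = MulAut.conj v J from rfl,
      show orderOf (MulAut.conj v J) = orderOf J from
        orderOf_injective (MulAut.conj v).toMonoidHom (MulAut.conj v).injective J, hJ2]
  choose r hr using fun a : {a : G // orderOf a = 2} => isConj_iff.1 (hone a.1 a.2)
  have hrc : ∀ (a : {a : G // orderOf a = 2}) (c : C), r a * c * J * (r a * c)⁻¹ = a.1 := by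
    intro a c
    have hc : (c : G) * J = J * c := mem_centralizer_singleton_iff.1 c.2
    rw [show r a * c * J * (r a * c)⁻¹ = r a * ((c : G) * J) * (c : G)⁻¹ * (r a)⁻¹ by group, hc,
      ← hr a]
    group
  rw [← Nat.card_prod, ← Nat.card_prod]
  refine (Nat.card_congr (Equiv.ofBijective (fun z : S × C × C =>
    (⟨(r ⟨z.1.1.1, z.1.2.1⟩ * z.2.1, r ⟨z.1.1.2, z.1.2.2.1⟩ * z.2.2), by
      simp only [hrc]; exact z.1.2.2.2⟩ : T)) ⟨?_, ?_⟩)).symm
  · rintro ⟨⟨⟨a, b⟩, hw⟩, c, d⟩ ⟨⟨⟨a', b'⟩, hw'⟩, c', d'⟩ h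
    have h1 : r ⟨a, hw.1⟩ * c = r ⟨a', hw'.1⟩ * c' := congrArg (fun t : T => t.1.1) h
    have h2 : r ⟨b, hw.2.1⟩ * d = r ⟨b', hw'.2.1⟩ * d' := congrArg (fun t : T => t.1.2) h
    have ha : a = a' := by
      have e1 := hrc ⟨a, hw.1⟩ c
      rw [h1, hrc] at e1
      exact e1.symm
    have hb : b = b' := by
      have e1 := hrc ⟨b, hw.2.1⟩ d
      rw [h2, hrc] at e1
      exact e1.symm
    subst ha hb
    obtain rfl : c = c' := Subtype.ext (mul_left_cancel h1)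
    obtain rfl : d = d' := Subtype.ext (mul_left_cancel h2)
    rfl
  · rintro ⟨⟨v, w⟩, hz⟩
    have hmem : ∀ v : G, (r ⟨_, hord v⟩)⁻¹ * v ∈ C := by
      intro v
      refine mem_centralizer_singleton_iff.2 ?_
      have h := hr ⟨_, hord v⟩
      calc (r ⟨_, hord v⟩)⁻¹ * v * J = (r ⟨_, hord v⟩)⁻¹ * (v * J * v⁻¹) * v := by group
        _ = J * ((r ⟨_, hord v⟩)⁻¹ * v) := by
          generalize r ⟨_, hord v⟩ = q at h ⊢
          simp only at h
          rw [← h]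
          group
    exact ⟨(⟨(v * J * v⁻¹, w * J * w⁻¹), hord v, hord w, hz⟩, ⟨_, hmem v⟩, ⟨_, hmem w⟩),
      Subtype.ext (Prod.ext (mul_inv_cancel_left _ _) (mul_inv_cancel_left _ _))⟩

variable {M : Ideal AlgInt} [M.IsPrime]

namespace DSylow

variable {P : Sylow 2 G} {σ τ : G} {q : ℕ} (D : DSylow P σ τ q)
include D

open Classical in
/-- Class multiplication in the section of a rotation, seen by the principal block. -/
theorem count_formula (hM : IsPModular 2 M) (hone : ∀ a : G, orderOf a = 2 → IsConj D.J a)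
    {x : G} (hx : x ∈ zpowers σ) (h1 : x ≠ 1) :
    (Nat.card {w : G × G // orderOf w.1 = 2 ∧ orderOf w.2 = 2 ∧ x⁻¹ * (w.1 * w.2) ∈ oc x} : ℂ) *
        (Nat.card (centralizer ({D.J} : Set G)) : ℂ) ^ 2 =
      (Nat.card G : ℂ) * (Nat.card (oc x) : ℂ) *
        ∑ᶠ χ ∈ principalBlock M G, (χ : G → ℂ) D.J ^ 2 * (χ : G → ℂ) x / (χ : G → ℂ) 1 := by
  haveI : Fact (Nat.Prime 2) := ⟨Nat.prime_two⟩
  cases nonempty_fintype G
  haveI : Fintype (oc x) := Fintype.ofFinite _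
  let T := {z : G × G // x⁻¹ * (z.1 * D.J * z.1⁻¹ * (z.2 * D.J * z.2⁻¹)) ∈ oc x}
  have hT := card_conj_pairs D.orderJ hone (fun a b => x⁻¹ * (a * b) ∈ oc x)
  have hiff : ∀ (z : G) (u : oc x), z = x * (u : G) ↔ x⁻¹ * z = u := fun z u => by
    rw [inv_mul_eq_iff_eq_mul]
  have hT' : (Nat.card T : ℂ) = (Nat.card G : ℂ) * (Nat.card (oc x) : ℂ) *
      ∑ᶠ χ ∈ principalBlock M G, (χ : G → ℂ) D.J ^ 2 * (χ : G → ℂ) x / (χ : G → ℂ) 1 := by
    calc (Nat.card T : ℂ)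
        = ∑ v : G, ∑ w : G, ∑ u : oc x,
            (if v * D.J * v⁻¹ * (w * D.J * w⁻¹) = x * (u : G) then (1 : ℂ) else 0) := by
          rw [Nat.card_eq_fintype_card, Fintype.card_subtype, ← Finset.sum_boole,
            Fintype.sum_prod_type]
          refine Finset.sum_congr rfl fun v _ => Finset.sum_congr rfl fun w _ => ?_
          simp only [hiff]
          by_cases hm : x⁻¹ * (v * D.J * v⁻¹ * (w * D.J * w⁻¹)) ∈ oc x
          · rw [if_pos hm, Finset.sum_eq_single (⟨_, hm⟩ : oc x), if_pos rfl]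
            · exact fun u _ hu => if_neg fun h => hu (Subtype.ext h.symm)
            · exact fun h => absurd (Finset.mem_univ _) h
          · rw [if_neg hm]
            exact (Finset.sum_eq_zero fun u _ => if_neg fun h => hm (by rw [h]; exact u.2)).symm
      _ = ∑ u : oc x, ∑ v : G, ∑ w : G,
            (if v * D.J * v⁻¹ * (w * D.J * w⁻¹) = x * (u : G) then (1 : ℂ) else 0) := by
          conv_rhs => rw [Finset.sum_comm]; enter [2, v]; rw [Finset.sum_comm]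
      _ = (Nat.card G : ℂ) * ∑ χ : IrrCharacter G, (χ : G → ℂ) D.J ^ 2 / (χ : G → ℂ) 1 *
            conj (∑ u : oc x, (χ : G → ℂ) (x * (u : G))) := by
          simp only [KleinOrder.sum_sum_conj_eq, map_sum, Finset.mul_sum]
          rw [Finset.sum_comm]
      _ = _ := by
          rw [finsum_mem_eq_toFinset_sum, mul_assoc, Finset.mul_sum (a := (Nat.card (oc x) : ℂ)),
            show (principalBlock M G).toFinset = Finset.univ.filter (· ∈ principalBlock M G) by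
              ext; simp, Finset.sum_filter]
          congr 1
          refine Finset.sum_congr rfl fun χ _ => ?_
          rw [KleinOrder.sum_section hM (D.exists_order_pow (D.rot_le hx)) (D.index_core hx h1) χ]
          split_ifs
          · rw [map_mul, Complex.conj_natCast, D.conj_apply_rot χ hx]; ring
          · rw [map_zero, mul_zero]
  rw [← hT', hT]
  push_cast
  ring

/-- The contributions of the block at `J` and at `σ` together. -/
theorem block_sums {ζ : ℂ} {χ₁ χ₂ χ₃ : IrrCharacter G} {e : ℕ → IrrCharacter G} {δ₁ δ₂ δ₃ : ℤ}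
    (hT : Table M σ q ζ χ₁ χ₂ χ₃ e δ₁ δ₂ δ₃) (hM : IsPModular 2 M) (hζ : IsPrimitiveRoot ζ (2 * q))
    (hx : (charDegree (χ₁ : G → ℂ) : ℂ) + (δ₁ : ℂ) ≠ 0) :
    (∑ᶠ χ ∈ principalBlock M G, (χ : G → ℂ) D.J ^ 2 * (χ : G → ℂ) D.J / (χ : G → ℂ) 1) +
      (∑ᶠ χ ∈ principalBlock M G, (χ : G → ℂ) D.J ^ 2 * (χ : G → ℂ) σ / (χ : G → ℂ) 1) =
      2 + 2 * (δ₁ : ℂ) / (charDegree (χ₁ : G → ℂ) : ℂ) -
        8 * (δ₁ : ℂ) / ((charDegree (χ₁ : G → ℂ) : ℂ) + (δ₁ : ℂ)) := by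
  classical
  haveI : Fact (Nat.Prime 2) := ⟨Nat.prime_two⟩
  cases nonempty_fintype G
  let triv : IrrCharacter G := ⟨fun _ => 1, Chars.isIrrCharacter_one⟩
  let I := Finset.Icc 1 (q - 1)
  have hset : (principalBlock M G).toFinset = {triv, χ₁, χ₂, χ₃} ∪ I.image e := by
    ext χ
    rw [Set.mem_toFinset, hT.block]
    simp only [Finset.mem_union, Finset.mem_insert, Finset.mem_singleton, Finset.mem_image, I]
    show ((χ : G → ℂ) = (fun _ => 1) ∨ _) ↔ _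
    constructor
    · rintro (h | h | h | h | ⟨i, hi, h⟩)
      exacts [Or.inl (Or.inl (Subtype.ext h)), Or.inl (Or.inr (Or.inl h)),
        Or.inl (Or.inr (Or.inr (Or.inl h))), Or.inl (Or.inr (Or.inr (Or.inr h))),
        Or.inr ⟨i, hi, h.symm⟩]
    · rintro ((h | h | h | h) | ⟨i, hi, h⟩)
      exacts [Or.inl (congrArg Subtype.val h), Or.inr (Or.inl h), Or.inr (Or.inr (Or.inl h)),
        Or.inr (Or.inr (Or.inr (Or.inl h))), Or.inr (Or.inr (Or.inr (Or.inr ⟨i, hi, h.symm⟩)))]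
  have hd1 : triv ≠ χ₁ := fun h => hT.ne₁ (h ▸ rfl)
  have hd2 : triv ≠ χ₂ := fun h => hT.ne₂ (h ▸ rfl)
  have hd3 : triv ≠ χ₃ := fun h => hT.ne₃ (h ▸ rfl)
  have hdis : Disjoint ({triv, χ₁, χ₂, χ₃} : Finset (IrrCharacter G)) (I.image e) := by
    rw [Finset.disjoint_left]
    intro χ hχ h
    obtain ⟨i, hi, rfl⟩ := Finset.mem_image.1 h
    obtain ⟨h1, h2, h3, h4⟩ := hT.e_ne i hi
    simp only [Finset.mem_insert, Finset.mem_singleton] at hχ
    rcases hχ with hh | hh | hh | hh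
    exacts [h4 (congrArg Subtype.val hh), h1 hh, h2 hh, h3 hh]
  have hsum : ∀ f : IrrCharacter G → ℂ, ∑ χ ∈ (principalBlock M G).toFinset, f χ =
      f triv + f χ₁ + f χ₂ + f χ₃ + ∑ i ∈ I, f (e i) := by
    intro f
    rw [hset, Finset.sum_union hdis, Finset.sum_image hT.e_inj, Finset.sum_insert (by simp [hd1, hd2, hd3]),
      Finset.sum_insert (by simp [hT.ne₁₂, hT.ne₁₃]), Finset.sum_pair hT.ne₂₃]
    ring
  have hq := D.two_le
  have hqI : q ∈ Finset.Ioo 0 (2 * q) := Finset.mem_Ioo.2 ⟨by omega, by omega⟩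
  have h1I : 1 ∈ Finset.Ioo 0 (2 * q) := Finset.mem_Ioo.2 ⟨by omega, by omega⟩
  have hσ1 : ∀ χ : IrrCharacter G, (χ : G → ℂ) σ = (χ : G → ℂ) (σ ^ 1) := fun χ => by rw [pow_one]
  have hev : ((-1 : ℂ)) ^ (q + 1) = -1 := by
    obtain ⟨t, ht⟩ := D.even_q
    rw [ht, pow_succ, pow_mul]
    norm_num
  have hJ1 : (χ₁ : G → ℂ) D.J = δ₁ := hT.val₁ q hqI
  have hS1 : (χ₁ : G → ℂ) σ = δ₁ := by rw [hσ1, hT.val₁ 1 h1I]
  have hJ2 : (χ₂ : G → ℂ) D.J = -δ₂ := by rw [hT.val₂ q hqI, hev]; ring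
  have hS2 : (χ₂ : G → ℂ) σ = δ₂ := by rw [hσ1, hT.val₂ 1 h1I]; ring
  have hJ3 : (χ₃ : G → ℂ) D.J = -δ₃ := by rw [hT.val₃ q hqI, hev]; ring
  have hS3 : (χ₃ : G → ℂ) σ = δ₃ := by rw [hσ1, hT.val₃ 1 h1I]; ring
  have hdd : (δ₁ : ℂ) * δ₁ = 1 := by rcases hT.sign₁ with h | h <;> simp [h]
  set x := (charDegree (χ₁ : G → ℂ) : ℂ) with hxdef
  have hx1 : (χ₁ : G → ℂ) 1 = x := (deg_spec χ₁).1.symm
  have hde : ∀ i ∈ I, (e i : G → ℂ) 1 = x + δ₁ := by
    intro i hi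
    have h := hT.regE 1 (by simp) i hi
    rw [hx1] at h
    linear_combination (-(δ₁ : ℂ)) * h + (x - (e i : G → ℂ) 1) * hdd
  -- orthogonality with the degrees
  have horth : ∀ z ∈ zpowers σ, z ≠ 1 →
      1 + x * (χ₁ : G → ℂ) z + (χ₂ : G → ℂ) 1 * (χ₂ : G → ℂ) z + (χ₃ : G → ℂ) 1 * (χ₃ : G → ℂ) z +
        ∑ i ∈ I, (x + δ₁) * (e i : G → ℂ) z = 0 := by
    intro z hz hz1
    obtain ⟨k, hk⟩ := D.exists_order_pow (D.rot_le hz)
    have h2 : 2 ∣ orderOf z := by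
      rcases k with _ | k
      · rw [pow_zero, orderOf_eq_one_iff] at hk; exact absurd hk hz1
      · rw [hk]; exact dvd_pow_self 2 (Nat.succ_ne_zero k)
    have h := weak_block_orth hM (PrincipalSection.isPBlock_principalBlock M G) (g := (1 : G))
      (by simp) h2
    rw [finsum_mem_eq_toFinset_sum, hsum] at h
    simp only [D.conj_apply_rot _ hz, triv, one_mul, hx1, map_one] at h
    rw [Finset.sum_congr rfl (g := fun i => (x + δ₁) * (e i : G → ℂ) z)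
      (fun i hi => by rw [hde i hi])] at h
    exact h
  have ho1 := horth D.J D.J_mem D.J_ne
  have ho2 := horth σ (mem_zpowers σ) D.σ_ne
  rw [hJ1, hJ2, hJ3, ← Finset.mul_sum] at ho1
  rw [hS1, hS2, hS3, ← Finset.mul_sum] at ho2
  have hW : ∑ i ∈ I, ((e i : G → ℂ) D.J + (e i : G → ℂ) σ) = -2 * δ₁ := by
    refine mul_left_cancel₀ hx ?_
    rw [Finset.sum_add_distrib]
    linear_combination ho1 + ho2 + (2 : ℂ) * hdd
  have hsq : ∀ i ∈ I, (e i : G → ℂ) D.J ^ 2 = 4 := by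
    intro i hi
    rw [hT.valE i hi q hqI]
    have hz2 : ζ ^ (i * q) * ζ ^ (i * q) = 1 := by
      rw [← pow_add, ← two_mul, mul_comm i q, ← mul_assoc, pow_mul, hζ.pow_eq_one, one_pow]
    rcases mul_self_eq_one_iff.1 hz2 with h' | h' <;> rw [h'] <;>
      linear_combination 4 * hdd
  rw [finsum_mem_eq_toFinset_sum, finsum_mem_eq_toFinset_sum, hsum, hsum]
  simp only [triv, hJ1, hJ2, hJ3, hS1, hS2, hS3, hx1, one_pow, one_mul, div_one]
  have hE : ∀ z : G, ∑ i ∈ I, (e i : G → ℂ) D.J ^ 2 * (e i : G → ℂ) z / (e i : G → ℂ) 1 =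
      ∑ i ∈ I, 4 * (e i : G → ℂ) z / (x + δ₁) :=
    fun z => Finset.sum_congr rfl fun i hi => by rw [hsq i hi, hde i hi]
  rw [hE D.J, hE σ]
  have hfin : ∑ i ∈ I, 4 * (e i : G → ℂ) D.J / (x + δ₁) + ∑ i ∈ I, 4 * (e i : G → ℂ) σ / (x + δ₁) =
      -8 * (δ₁ : ℂ) / (x + δ₁) := by
    rw [← Finset.sum_add_distrib, Finset.sum_congr rfl
      (g := fun i => 4 / (x + δ₁) * ((e i : G → ℂ) D.J + (e i : G → ℂ) σ)) (fun i _ => by ring),
      ← Finset.mul_sum, hW]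
    ring
  linear_combination hfin + (2 * (δ₁ : ℂ) / x) * hdd

end DSylow

end Cfsg.Agent.Lib.DihedralBlock

namespace Cfsg.Agent.Lib.DihedralBlock.DSylow

open Subgroup
open Cfsg
open Cfsg.Agent.Lib Cfsg.Agent.Lib.Blocks

universe u

variable {G : Type u} [Group G] [Finite G] {M : Ideal AlgInt} [M.IsPrime]
  {P : Sylow 2 G} {σ τ : G} {q : ℕ} (D : DSylow P σ τ q)
include D

/-- Every involution is conjugate to `J`. -/
theorem isConj_J (hconj : IsConj D.J τ ∧ IsConj D.J (σ * τ)) {a : G} (ha : orderOf a = 2) :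
    IsConj D.J a := by
  haveI : Fact (Nat.Prime 2) := ⟨Nat.prime_two⟩
  obtain ⟨g, hg⟩ := D.exists_conj_mem (Q := zpowers a)
    (IsPGroup.of_card (n := 1) (by rw [Nat.card_zpowers, ha, pow_one]))
  have hb := hg a (mem_zpowers a)
  set b := g * a * g⁻¹ with hbdef
  have hab : IsConj b a := isConj_iff.2 ⟨g⁻¹, by rw [hbdef]; group⟩
  refine IsConj.trans ?_ hab
  have haa : a * a = 1 := by rw [← pow_two, ← ha, pow_orderOf_eq_one]
  have hbb : b * b = 1 := by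
    rw [hbdef, show g * a * g⁻¹ * (g * a * g⁻¹) = g * (a * a) * g⁻¹ by group, haa]; group
  have hb1 : b ≠ 1 := fun h => by
    rw [hbdef, conj_eq_one_iff] at h
    rw [h, orderOf_one] at ha
    omega
  rcases D.decomp b hb with h | h
  · rw [((D.sq_eq_one_iff h).1 hbb).resolve_left hb1]
  · obtain ⟨k, hk⟩ := (mem_powers_iff_mem_zpowers (x := σ)).2 h
    simp only at hk
    have hb' : b = τ * σ ^ k := by rw [hk, ← mul_assoc, D.ττ, one_mul]
    have key : ∀ i : ℕ, σ ^ i * (τ * σ ^ (2 * i)) * (σ ^ i)⁻¹ = τ := by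
      intro i
      have h := D.inverts (pow_mem (mem_zpowers σ) i)
      have hc : σ ^ i * τ = τ * (σ ^ i)⁻¹ := by
        rw [← h, ← mul_assoc, ← mul_assoc, D.ττ, one_mul]
      rw [← mul_assoc, hc, show 2 * i = i + i by ring, pow_add]
      group
    rcases Nat.even_or_odd k with hke | hke
    · obtain ⟨i, rfl⟩ := hke
      refine hconj.1.trans (IsConj.symm (isConj_iff.2 ⟨σ ^ i, ?_⟩))
      rw [hb', ← two_mul, key]
    · obtain ⟨i, rfl⟩ := hke
      refine hconj.2.trans (IsConj.symm (isConj_iff.2 ⟨σ ^ (i + 1), ?_⟩))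
      rw [hb']
      calc σ ^ (i + 1) * (τ * σ ^ (2 * i + 1)) * (σ ^ (i + 1))⁻¹
          = σ * (σ ^ i * (τ * σ ^ (2 * i)) * (σ ^ i)⁻¹) := by
            rw [pow_succ' σ i, pow_succ σ (2 * i)]; group
        _ = σ * τ := by rw [key]

theorem main_formula (hM : IsPModular 2 M) (hconj : IsConj (σ ^ q) τ ∧ IsConj (σ ^ q) (σ * τ))
    (χ : IrrCharacter G) (hχ : χ ∈ principalBlock M G) (h1 : (χ : G → ℂ) ≠ fun _ => 1)
    (δ : ℤ) (hδ : δ = 1 ∨ δ = -1)
    (hval : ∀ l : ℕ, 0 < l → l < 2 * q → (χ : G → ℂ) (σ ^ l) = δ) :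
    (charDegree (χ : G → ℂ) : ℤ) ≠ δ ∧
      (Nat.card G : ℚ) * ((charDegree (χ : G → ℂ) : ℚ) - δ) ^ 2 =
        2 * (charDegree (χ : G → ℂ) : ℚ) * ((charDegree (χ : G → ℂ) : ℚ) + δ) *
          (Nat.card (centralizer ({σ ^ q} : Set G)) : ℚ) ^ 3 *
          (1 / (Nat.card (centralizer ({σ ^ q, τ} : Set G)) : ℚ) +
            1 / (Nat.card (centralizer ({σ ^ q, σ * τ} : Set G)) : ℚ)) ^ 2 := by
  classical
  have hq := D.two_le
  have hζ := Complex.isPrimitiveRoot_exp (2 * q) (by omega)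
  obtain ⟨χ₁, χ₂, χ₃, e, δ₁, δ₂, δ₃, hT⟩ := D.exists_table hM hζ
  have hqI : q ∈ Finset.Ioo 0 (2 * q) := Finset.mem_Ioo.2 ⟨by omega, by omega⟩
  have h1I : 1 ∈ Finset.Ioo 0 (2 * q) := Finset.mem_Ioo.2 ⟨by omega, by omega⟩
  have hv1 : (χ : G → ℂ) (σ ^ 1) = δ := hval 1 one_pos (by omega)
  have hvq : (χ : G → ℂ) (σ ^ q) = δ := hval q (by omega) (by omega)
  have hev : ((-1 : ℂ)) ^ (q + 1) = -1 := by
    obtain ⟨t, ht⟩ := D.even_q
    rw [ht, pow_succ, pow_mul]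
    norm_num
  have hδ0 : (δ : ℂ) ≠ 0 := by rcases hδ with h | h <;> simp [h]
  have hident : χ = χ₁ ∧ δ = δ₁ := by
    have hmem := hχ
    rw [hT.block] at hmem
    rcases hmem with h | rfl | rfl | rfl | ⟨i, hi, rfl⟩
    · exact absurd h h1
    · exact ⟨rfl, by exact_mod_cast hv1.symm.trans (hT.val₁ 1 h1I)⟩
    · exfalso
      rw [hT.val₂ 1 h1I] at hv1
      rw [hT.val₂ q hqI, hev] at hvq
      exact hδ0 (by linear_combination -(1 / 2 : ℂ) * hv1 - (1 / 2 : ℂ) * hvq)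
    · exfalso
      rw [hT.val₃ 1 h1I] at hv1
      rw [hT.val₃ q hqI, hev] at hvq
      exact hδ0 (by linear_combination -(1 / 2 : ℂ) * hv1 - (1 / 2 : ℂ) * hvq)
    · exfalso
      rw [hT.valE i hi q hqI] at hvq
      have hz2 : Complex.exp (2 * ↑Real.pi * Complex.I / ↑(2 * q)) ^ (i * q) *
          Complex.exp (2 * ↑Real.pi * Complex.I / ↑(2 * q)) ^ (i * q) = 1 := by
        rw [← pow_add, ← two_mul, mul_comm i q, ← mul_assoc, pow_mul, hζ.pow_eq_one, one_pow]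
      rcases mul_self_eq_one_iff.1 hz2 with h' | h' <;> rw [h'] at hvq <;>
        rcases hδ with h | h <;> rcases hT.sign₁ with h'' | h'' <;> rw [h, h''] at hvq <;>
        norm_num at hvq
  obtain ⟨rfl, rfl⟩ := hident
  set x := charDegree (χ : G → ℂ) with hxdef
  have hxpos : 0 < x := (deg_spec χ).2
  have hI1 : 1 ∈ Finset.Icc 1 (q - 1) := Finset.mem_Icc.2 ⟨le_rfl, by omega⟩
  have hxδ : (0 : ℤ) < x + δ := by
    have h := hT.regE 1 (by simp) 1 hI1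
    rw [← (deg_spec χ).1, ← (deg_spec (e 1)).1] at h
    have h' : 1 + δ * (x : ℤ) = δ * (charDegree (e 1 : G → ℂ) : ℤ) := by exact_mod_cast h
    have := (deg_spec (e 1)).2
    rcases hδ with hh | hh <;> rw [hh] at h' ⊢ <;> omega
  have hone : ∀ a : G, orderOf a = 2 → IsConj D.J a := fun a ha => D.isConj_J hconj ha
  have hnJ := D.P_norm D.J_mem D.J_ne
  have hnσ := D.P_norm (mem_zpowers σ) D.σ_ne
  have hoJ : Odd (Nat.card (oc D.J)) := KleinOrder.odd_card_O D.J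
  have hoσ : Odd (Nat.card (oc σ)) := KleinOrder.odd_card_O σ
  have hJ := D.count_formula hM hone D.J_mem D.J_ne
  rw [D.card_section q D.J_ne, D.card_pairs_even hoJ hnJ (even_iff_two_dvd.2 D.even_q)] at hJ
  have hS := D.count_formula hM hone (mem_zpowers σ) D.σ_ne
  have hcs := D.card_section 1 (by rw [pow_one]; exact D.σ_ne)
  have hodd1 := D.card_pairs_odd hoσ hnσ (l := 1) (by decide)
  rw [pow_one] at hcs hodd1
  rw [hcs, hodd1, D.cosetInv_σ_swap] at hS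
  have hfix := D.fixed_point_formula
  have hT1 := D.card_refl hoJ hnJ τ D.τ_mem D.ττ
  have hT2 := D.card_refl hoJ hnJ (σ * τ) (mul_mem D.σ_mem D.τ_mem) D.στ_sq
  have hct := D.card_centralizer_pair
  have hcs' : Nat.card (centralizer ({D.J, σ * τ} : Set G)) =
      4 * Nat.card ↥(oc D.J ⊓ centralizer ({σ * τ} : Set G)) := D.swap.card_centralizer_pair
  have hc := D.card_centralizer_J
  have hsum := D.block_sums hT hM hζ (by exact_mod_cast hxδ.ne')
  show _ ∧ (Nat.card G : ℚ) * _ = 2 * (x : ℚ) * _ *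
    (Nat.card (centralizer ({D.J} : Set G)) : ℚ) ^ 3 *
      (1 / (Nat.card (centralizer ({D.J, τ} : Set G)) : ℚ) +
        1 / (Nat.card (centralizer ({D.J, σ * τ} : Set G)) : ℚ)) ^ 2
  rw [hct, hcs', hc]
  rw [hc] at hJ hS
  rw [← hxdef] at hsum
  set g := Nat.card G
  set O := Nat.card (oc D.J)
  set O₁ := Nat.card (oc σ)
  set T := Nat.card ↥(oc D.J ⊓ centralizer ({τ} : Set G))
  set S := Nat.card ↥(oc D.J ⊓ centralizer ({σ * τ} : Set G))
  set a := cosetInv (oc D.J) τ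
  set b := cosetInv (oc D.J) (σ * τ)
  set r := cosetInv (oc σ) τ
  set SJ := ∑ᶠ χ ∈ principalBlock M G, (χ : G → ℂ) D.J ^ 2 * (χ : G → ℂ) D.J / (χ : G → ℂ) 1
  set SS := ∑ᶠ χ ∈ principalBlock M G, (χ : G → ℂ) D.J ^ 2 * (χ : G → ℂ) σ / (χ : G → ℂ) 1
  push_cast at hJ hS
  have hO : 0 < O := Nat.card_pos
  have hO1 : 0 < O₁ := Nat.card_pos
  have hTp : 0 < T := Nat.card_pos
  have hSp : 0 < S := Nat.card_pos
  have ha : 0 < a := Nat.pos_of_ne_zero fun h => by rw [h, zero_mul] at hT1; omega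
  have hb : 0 < b := Nat.pos_of_ne_zero fun h => by rw [h, zero_mul] at hT2; omega
  have hfixC : (a : ℂ) * b * O₁ = (r : ℂ) ^ 2 * O := by exact_mod_cast hfix
  have hδδ : (δ : ℂ) * δ = 1 := by rcases hδ with h | h <;> simp [h]
  have hxC : (x : ℂ) ≠ 0 := Nat.cast_ne_zero.2 hxpos.ne'
  have hxδC : (x : ℂ) + δ ≠ 0 := by exact_mod_cast hxδ.ne'
  have hO1C : (O₁ : ℂ) ≠ 0 := Nat.cast_ne_zero.2 hO1.ne'
  have hOC : (O : ℂ) ≠ 0 := Nat.cast_ne_zero.2 hO.ne'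
  -- the sum of the two contributions
  have h2 : (g : ℂ) * O * (SJ + SS) = q * (4 * q * O : ℂ) ^ 2 * ((a : ℂ) + b) ^ 2 := by
    refine mul_right_cancel₀ hO1C ?_
    linear_combination (-(O₁ : ℂ)) * hJ - (O : ℂ) * hS -
      2 * (q : ℂ) * (4 * q * O : ℂ) ^ 2 * hfixC
  have hsum' : (SJ + SS) * ((x : ℂ) * ((x : ℂ) + δ)) = 2 * ((x : ℂ) - δ) ^ 2 := by
    rw [hsum]
    field_simp
    linear_combination (0 : ℂ) * hδδ
  have hmain : (g : ℂ) * O * (2 * ((x : ℂ) - δ) ^ 2) =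
      q * (4 * q * O : ℂ) ^ 2 * ((a : ℂ) + b) ^ 2 * ((x : ℂ) * ((x : ℂ) + δ)) := by
    rw [← h2, ← hsum']
    ring
  have hmainQ : (g : ℚ) * O * (2 * ((x : ℚ) - δ) ^ 2) =
      q * (4 * q * O : ℚ) ^ 2 * ((a : ℚ) + b) ^ 2 * ((x : ℚ) * ((x : ℚ) + δ)) := by
    exact_mod_cast hmain
  have hTq : (a : ℚ) * T = O := by exact_mod_cast hT1
  have hSq : (b : ℚ) * S = O := by exact_mod_cast hT2
  have hOQ : (O : ℚ) ≠ 0 := Nat.cast_ne_zero.2 hO.ne'
  have haQ : (a : ℚ) ≠ 0 := Nat.cast_ne_zero.2 ha.ne'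
  have hbQ : (b : ℚ) ≠ 0 := Nat.cast_ne_zero.2 hb.ne'
  have hTQ : (T : ℚ) = O / a := by rw [eq_div_iff haQ, mul_comm]; exact hTq
  have hSQ : (S : ℚ) = O / b := by rw [eq_div_iff hbQ, mul_comm]; exact hSq
  have heq : (g : ℚ) * ((x : ℚ) - δ) ^ 2 = 2 * (x : ℚ) * ((x : ℚ) + δ) *
      ((4 * q * O : ℕ) : ℚ) ^ 3 * (1 / ((4 * T : ℕ) : ℚ) + 1 / ((4 * S : ℕ) : ℚ)) ^ 2 := by
    refine mul_left_cancel₀ hOQ ?_
    push_cast
    rw [hTQ, hSQ]
    have hm : (g : ℚ) * (2 * ((x : ℚ) - δ) ^ 2) =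
        q * (4 * q : ℚ) ^ 2 * O * ((a : ℚ) + b) ^ 2 * ((x : ℚ) * ((x : ℚ) + δ)) :=
      mul_left_cancel₀ hOQ (by linear_combination hmainQ)
    field_simp
    linear_combination (1 / 2 : ℚ) * hm
  refine ⟨?_, heq⟩
  intro hxd
  have hxdQ : (x : ℚ) = δ := by exact_mod_cast hxd
  have hpos : 0 < (2 * (x : ℚ) * ((x : ℚ) + δ) *
      ((4 * q * O : ℕ) : ℚ) ^ 3 * (1 / ((4 * T : ℕ) : ℚ) + 1 / ((4 * S : ℕ) : ℚ)) ^ 2) := by
    have : (0 : ℚ) < (x : ℚ) + δ := by exact_mod_cast hxδ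
    have : (0 : ℚ) < x := by exact_mod_cast hxpos
    positivity
  rw [← heq, hxdQ, sub_self] at hpos
  simp at hpos

end Cfsg.Agent.Lib.DihedralBlock.DSylow
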