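import Cfsg.Agent.Lib.DihedralBlock.Setup
import Cfsg.Agent.Lib.KleinOrder.Setup

/-!
# Normal 2-complements in the centralisers of rotations
-/

set_option autoImplicit false
set_option linter.unusedSectionVars false

namespace Cfsg.Agent.Lib.DihedralBlock.DSylow

open Subgroup
open Cfsg
open Cfsg.Agent.Lib

variable {G : Type*} [Group G] [Finite G] {P : Sylow 2 G} {σ τ : G} {q : ℕ} (D : DSylow P σ τ q)
include D

/-- What a normal 2-complement in `C(z)` amounts to. -/
theorem complement_spec {z : G} (S : Sylow 2 (centralizer ({z} : Set G)))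
    (hS : ∀ y ∈ (S : Subgroup (centralizer ({z} : Set G))), (y : G) ∈ (P : Subgroup G))
    (N : Subgroup (centralizer ({z} : Set G))) [N.Normal]
    (hN : N.IsComplement' (S : Subgroup (centralizer ({z} : Set G)))) :
    (∃ k : ℕ, (pPrimeCore 2 (centralizer ({z} : Set G))).index = 2 ^ k) ∧
      (∀ g : G, g * z = z * g → ∃ p ∈ (P : Subgroup G), p * z = z * p ∧ ∃ ρ ∈ oc z, g = p * ρ) ∧
      2 ^ (Nat.card (centralizer ({z} : Set G))).factorization 2 =
        Nat.card (S : Subgroup (centralizer ({z} : Set G))) := by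
  haveI : Fact (Nat.Prime 2) := ⟨Nat.prime_two⟩
  have hidxN : N.index = Nat.card (S : Subgroup (centralizer ({z} : Set G))) := hN.symm.index_eq_card
  have hNodd : ¬ 2 ∣ Nat.card N := by
    rw [← hN.index_eq_card]
    exact S.not_dvd_index
  have hNle : N ≤ pPrimeCore 2 (centralizer ({z} : Set G)) :=
    PSolvable.le_pPrimeCore (Nat.prime_two.coprime_iff_not_dvd.2 hNodd).symm
  obtain ⟨e, he⟩ := S.2.exists_card_eq
  refine ⟨?_, ?_, S.card_eq_multiplicity.symm⟩
  · have hd : (pPrimeCore 2 (centralizer ({z} : Set G))).index ∣ 2 ^ e :=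
      he ▸ hidxN ▸ Subgroup.index_dvd_of_le hNle
    obtain ⟨k, -, hk⟩ := (Nat.dvd_prime_pow Nat.prime_two).1 hd
    exact ⟨k, hk⟩
  · intro g hg
    obtain ⟨⟨⟨n, hn⟩, ⟨p, hp⟩⟩, hnp⟩ :=
      hN.2 ⟨g, mem_centralizer_singleton_iff.2 hg⟩
    simp only at hnp
    refine ⟨(p : G), hS p hp, mem_centralizer_singleton_iff.1 p.2, ((p⁻¹ * n * p :
      centralizer ({z} : Set G)) : G), ⟨p⁻¹ * n * p, hNle ?_, rfl⟩, ?_⟩
    · have := Subgroup.Normal.conj_mem (inferInstance : N.Normal) n hn p⁻¹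
      rwa [inv_inv] at this
    · have := congrArg Subtype.val hnp
      simp only [coe_mul, coe_inv] at this ⊢
      rw [← this]
      group

/-- An element of odd order normalising a subgroup of `P` and fixing `J` centralises it. -/
theorem centralizes_of_odd {Q : Subgroup G} (hQ : Q ≤ (P : Subgroup G)) {g : G}
    (hodd : Odd (orderOf g)) (hgJ : g * D.J = D.J * g)
    (hgQ : ∀ y ∈ Q, g * y * g⁻¹ ∈ Q) {y : G} (hy : y ∈ Q) : g * y * g⁻¹ = y := by
  obtain ⟨j, hj⟩ := hodd
  have hrot : ∀ w ∈ Q, w ∈ zpowers σ → g * w * g⁻¹ = w := by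
    intro w hwQ hw
    by_cases h2 : w * w = 1
    · rcases (D.sq_eq_one_iff hw).1 h2 with rfl | rfl
      · group
      · rw [hgJ, mul_inv_cancel_right]
    have h2' : g * w * g⁻¹ * (g * w * g⁻¹) ≠ 1 := by
      rw [show g * w * g⁻¹ * (g * w * g⁻¹) = g * (w * w) * g⁻¹ by group, Ne, conj_eq_one_iff]
      exact h2
    have hmem := D.mem_of_sq_ne (hQ (hgQ w hwQ)) h2'
    rcases D.fusion hw h2 hmem with h | h
    · exact h
    · -- g inverts w and has odd order
      exfalso
      have h1 : g * g * w * (g * g)⁻¹ = w := by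
        calc g * g * w * (g * g)⁻¹ = g * (g * w * g⁻¹) * g⁻¹ := by group
          _ = g * w⁻¹ * g⁻¹ := by rw [h]
          _ = (g * w * g⁻¹)⁻¹ := by group
          _ = w := by rw [h, inv_inv]
      have h3 : ∀ i, (g * g) ^ i * w * ((g * g) ^ i)⁻¹ = w := by
        intro i
        induction i with
        | zero => simp
        | succ i ih =>
          rw [pow_succ', _root_.mul_inv_rev]
          generalize (g * g) ^ i = x at ih ⊢
          generalize g * g = v at h1 ⊢
          calc v * x * w * (x⁻¹ * v⁻¹) = v * (x * w * x⁻¹) * v⁻¹ := by group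
            _ = w := by rw [ih, h1]
      have h4 := h3 (j + 1)
      rw [show (g * g) ^ (j + 1) = g by
        rw [← pow_two, ← pow_mul, show 2 * (j + 1) = orderOf g + 1 by omega, pow_succ,
          pow_orderOf_eq_one, one_mul], h] at h4
      exact h2 (mul_eq_one_iff_eq_inv.2 h4.symm)
  rcases D.decomp y (hQ hy) with h | h
  · exact hrot y hy h
  -- a reflection
  have hgy := hgQ y hy
  have hgyr : τ * (g * y * g⁻¹) ∈ zpowers σ := by
    refine (D.decomp _ (hQ hgy)).resolve_left fun h' => D.τ_notMem ?_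
    have hfix := hrot _ hgy h'
    have hyeq : g * y * g⁻¹ = y := by
      calc g * y * g⁻¹ = g⁻¹ * (g * (g * y * g⁻¹) * g⁻¹) * g := by group
        _ = y := by rw [hfix]; group
    rw [hyeq] at h'
    have := mul_mem h (inv_mem h')
    rwa [mul_inv_cancel_right] at this
  set w := y⁻¹ * (g * y * g⁻¹) with hw
  have hwQ : w ∈ Q := mul_mem (inv_mem hy) hgy
  have hwσ : w ∈ zpowers σ := by
    have := mul_mem (inv_mem h) hgyr
    rwa [show (τ * y)⁻¹ * (τ * (g * y * g⁻¹)) = w by rw [hw]; group] at this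
  have hgw := hrot w hwQ hwσ
  have hiter : ∀ i : ℕ, g ^ i * y * (g ^ i)⁻¹ = y * w ^ i := by
    intro i
    induction i with
    | zero => simp
    | succ i ih =>
      calc g ^ (i + 1) * y * (g ^ (i + 1))⁻¹
          = g * (g ^ i * y * (g ^ i)⁻¹) * g⁻¹ := by rw [pow_succ']; group
        _ = g * y * g⁻¹ * (g * w * g⁻¹) ^ i := by rw [ih, conj_pow]; group
        _ = y * w ^ (i + 1) := by
          rw [hgw, show g * y * g⁻¹ = y * w by rw [hw]; group, pow_succ', mul_assoc]
  have hwn := hiter (orderOf g)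
  rw [pow_orderOf_eq_one, one_mul, inv_one, mul_one] at hwn
  have hw1 : orderOf w ∣ orderOf g := orderOf_dvd_of_pow_eq_one (mul_eq_left.1 hwn.symm)
  obtain ⟨k, hk⟩ := D.exists_order_pow (hQ hwQ)
  have hk0 : k = 0 := by
    rcases k with _ | k
    · rfl
    · exfalso
      rw [hk, hj] at hw1
      have : (2 : ℕ) ∣ 2 * j + 1 := (dvd_pow_self 2 (Nat.succ_ne_zero k)).trans hw1
      omega
  rw [hk0, pow_zero, orderOf_eq_one_iff, hw, inv_mul_eq_one] at hk
  exact hk.symm

theorem spec_J :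
    (∃ k : ℕ, (pPrimeCore 2 (centralizer ({D.J} : Set G))).index = 2 ^ k) ∧
      (∀ g : G, g * D.J = D.J * g →
        ∃ p ∈ (P : Subgroup G), p * D.J = D.J * p ∧ ∃ ρ ∈ oc D.J, g = p * ρ) ∧
      2 ^ (Nat.card (centralizer ({D.J} : Set G))).factorization 2 = 4 * q := by
  haveI : Fact (Nat.Prime 2) := ⟨Nat.prime_two⟩
  let S : Sylow 2 (centralizer ({D.J} : Set G)) := P.subtype D.P_le_centralizer_J
  obtain ⟨N, hN, hc⟩ := (Cfsg.Agent.S0071.result S).2 fun Q hQ g hg hco => by
    rw [mem_centralizer_iff]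
    intro y hy
    have hodd : Odd (orderOf (g : G)) := by
      rw [Subgroup.orderOf_coe, ← Nat.not_even_iff_odd, even_iff_two_dvd]
      exact Nat.prime_two.coprime_iff_not_dvd.1 hco.symm
    have h := D.centralizes_of_odd (Q := Q.map (centralizer ({D.J} : Set G)).subtype) (g := (g : G))
      (by rintro _ ⟨w, hw, rfl⟩; exact hQ hw) hodd (mem_centralizer_singleton_iff.1 g.2)
      (by rintro _ ⟨w, hw, rfl⟩; exact ⟨g * w * g⁻¹, (mem_normalizer_iff.1 hg w).1 hw, rfl⟩)
      ⟨y, hy, rfl⟩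
    apply Subtype.ext
    show (y : G) * g = g * y
    calc (y : G) * g = g * y * (g : G)⁻¹ * g := by rw [show (g : G) * y * (g : G)⁻¹ = y from h]
      _ = g * y := by group
  obtain ⟨h1, h2, h3⟩ := D.complement_spec S (fun y hy => hy) N hc
  refine ⟨h1, h2, h3.trans ?_⟩
  rw [← D.card]
  exact Nat.card_congr (Subgroup.subgroupOfEquivOfLe D.P_le_centralizer_J).toEquiv

theorem spec_rot {z : G} (hz : z ∈ zpowers σ) (h2 : z * z ≠ 1) :
    (∃ k : ℕ, (pPrimeCore 2 (centralizer ({z} : Set G))).index = 2 ^ k) ∧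
      (∀ g : G, g * z = z * g → ∃ p ∈ (P : Subgroup G), p * z = z * p ∧ ∃ ρ ∈ oc z, g = p * ρ) ∧
      2 ^ (Nat.card (centralizer ({z} : Set G))).factorization 2 = 2 * q := by
  haveI : Fact (Nat.Prime 2) := ⟨Nat.prime_two⟩
  have hle := D.zpowers_le_centralizer hz
  have hpA : IsPGroup 2 ((zpowers σ).subgroupOf (centralizer ({z} : Set G))) :=
    (P.2.to_le D.rot_le).comap_subtype
  obtain ⟨S, hS⟩ := hpA.exists_le_sylow
  have hQeq : (S : Subgroup _).map (centralizer ({z} : Set G)).subtype = zpowers σ := by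
    refine D.eq_zpowers hz h2 (S.2.map _)
      ⟨⟨σ, hle (mem_zpowers σ)⟩, hS (show σ ∈ zpowers σ from mem_zpowers σ), rfl⟩ ?_
    rintro _ ⟨y, -, rfl⟩
    exact mem_centralizer_singleton_iff.1 y.2
  have hSP : ∀ y ∈ (S : Subgroup (centralizer ({z} : Set G))), (y : G) ∈ zpowers σ := by
    intro y hy
    rw [← hQeq]
    exact ⟨y, hy, rfl⟩
  let e := (S : Subgroup (centralizer ({z} : Set G))).equivMapOfInjective
    (centralizer ({z} : Set G)).subtype (Subgroup.subtype_injective _)
  haveI : IsCyclic ((S : Subgroup _).map (centralizer ({z} : Set G)).subtype) := by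
    rw [hQeq]; infer_instance
  have hcyc : IsCyclic (S : Subgroup (centralizer ({z} : Set G))) :=
    isCyclic_of_surjective e.symm e.symm.surjective
  have hzord : 2 ∣ orderOf z := by
    obtain ⟨k, hk⟩ := D.exists_order_pow (D.rot_le hz)
    rcases k with _ | k
    · rw [pow_zero, orderOf_eq_one_iff] at hk
      exact absurd (by rw [hk, one_mul]) h2
    · rw [hk]; exact dvd_pow_self 2 (Nat.succ_ne_zero k)
  have hmin : (Nat.card (centralizer ({z} : Set G))).minFac = 2 := by
    refine (Nat.minFac_eq_two_iff _).2 (hzord.trans ?_)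
    rw [← Subgroup.orderOf_mk z (mem_centralizer_singleton_iff.2 rfl : z ∈ centralizer ({z} : Set G))]
    exact orderOf_dvd_natCard _
  have hker := MonoidHom.ker_transferSylow_isComplement' S
    (IsCyclic.normalizer_le_centralizer hmin hcyc)
  obtain ⟨h1, h2', h3⟩ := D.complement_spec S (fun y hy => D.rot_le (hSP y hy)) _ hker
  refine ⟨h1, h2', h3.trans ?_⟩
  rw [Nat.card_congr e.toEquiv, hQeq, Nat.card_zpowers, D.orderσ]

theorem index_core {z : G} (hz : z ∈ zpowers σ) (h1 : z ≠ 1) :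
    ∃ k : ℕ, (pPrimeCore 2 (centralizer ({z} : Set G))).index = 2 ^ k := by
  by_cases hJ : z = D.J
  · subst hJ; exact D.spec_J.1
  · exact (D.spec_rot hz (D.pow_sq_ne hz h1 hJ)).1

theorem exists_decomp {z : G} (hz : z ∈ zpowers σ) (h1 : z ≠ 1) {g : G} (hg : g * z = z * g) :
    ∃ p ∈ (P : Subgroup G), p * z = z * p ∧ ∃ ρ ∈ oc z, g = p * ρ := by
  by_cases hJ : z = D.J
  · subst hJ; exact D.spec_J.2.1 g hg
  · exact (D.spec_rot hz (D.pow_sq_ne hz h1 hJ)).2.1 g hg

theorem mem_oc_of_odd {z : G} (hz : z ∈ zpowers σ) (h1 : z ≠ 1) {g : G} (hg : g * z = z * g)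
    (hodd : ¬ 2 ∣ orderOf g) : g ∈ oc z := by
  haveI : Fact (Nat.Prime 2) := ⟨Nat.prime_two⟩
  have := PSolvable.pPrimeCore_characteristic (p := 2) (G := centralizer ({z} : Set G))
  have hn : (pPrimeCore 2 (centralizer ({z} : Set G))).Normal := inferInstance
  exact ⟨⟨g, mem_centralizer_singleton_iff.2 hg⟩,
    Blocks.Covering.mem_of_pRegular_of_index _ (D.index_core hz h1) (by rwa [Subgroup.orderOf_mk]),
    rfl⟩

theorem P_normalizes_oc {z : G} (hz : z ∈ zpowers σ) (h1 : z ≠ 1) {p u : G}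
    (hp : p ∈ (P : Subgroup G)) (hu : u ∈ oc z) : p * u * p⁻¹ ∈ oc z := by
  have huz : u * z = z * u := mem_centralizer_singleton_iff.1 (KleinOrder.O_le z hu)
  refine D.mem_oc_of_odd hz h1 ?_ ?_
  · have hw : u * (p⁻¹ * z * p) = p⁻¹ * z * p * u := by
      rcases D.conj_cases (inv_mem hp) hz with h | h <;> rw [inv_inv] at h <;> rw [h]
      · exact huz
      · exact ((show Commute u z from huz).inv_right).eq
    calc p * u * p⁻¹ * z = p * (u * (p⁻¹ * z * p)) * p⁻¹ := by group
      _ = z * (p * u * p⁻¹) := by rw [hw]; group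
  · rw [show p * u * p⁻¹ = MulAut.conj p u from rfl,
      show orderOf (MulAut.conj p u) = orderOf u from
        orderOf_injective (MulAut.conj p).toMonoidHom (MulAut.conj p).injective u]
    intro h
    refine (Nat.not_even_iff_odd.2 (KleinOrder.odd_card_O z)) (even_iff_two_dvd.2 (h.trans ?_))
    exact (Subgroup.orderOf_mk u hu).symm.dvd.trans (orderOf_dvd_natCard _)

end Cfsg.Agent.Lib.DihedralBlock.DSylow
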