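import Cfsg.Agent.Lib.DihedralBlock.Reflections

/-!
# Fixed points of the dihedral group in the odd core, and pairs of involutions
-/

set_option autoImplicit false
set_option linter.unusedSectionVars false

namespace Cfsg.Agent.Lib.DihedralBlock

open Subgroup
open Cfsg
open Cfsg.Agent.Lib

variable {G : Type*} [Group G] [Finite G]

/-- Averages over `x · O` and over `x · C_O(x)` of a class function agree. -/
theorem sum_coset_eq {O : Subgroup G} (hodd : Odd (Nat.card O)) {x : G}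
    (hx : ∃ k : ℕ, orderOf x = 2 ^ k) (hn : ∀ u ∈ O, x⁻¹ * u * x ∈ O) [Fintype O]
    [Fintype ↥(O ⊓ centralizer ({x} : Set G))] (f : G → ℕ)
    (hf : ∀ u ∈ O, ∀ g, f (u * g * u⁻¹) = f g) :
    (∑ ρ : O, f (x * ρ)) * Nat.card ↥(O ⊓ centralizer ({x} : Set G)) =
      Nat.card O * ∑ ρ : ↥(O ⊓ centralizer ({x} : Set G)), f (x * ρ) := by
  classical
  haveI : Fact (Nat.Prime 2) := ⟨Nat.prime_two⟩
  let O₁ := O ⊓ centralizer ({x} : Set G)
  have hmem : ∀ w : O × O₁, x⁻¹ * ((w.1 : G) * (x * w.2) * (w.1 : G)⁻¹) ∈ O := by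
    intro w
    have h1 := hn _ w.1.2
    rw [show x⁻¹ * ((w.1 : G) * (x * w.2) * (w.1 : G)⁻¹) =
      x⁻¹ * (w.1 : G) * x * ((w.2 : G) * (w.1 : G)⁻¹) by group]
    exact mul_mem h1 (mul_mem (mem_inf.1 w.2.2).1 (inv_mem w.1.2))
  let Φ : O × O₁ → O := fun w => ⟨_, hmem w⟩
  have hpp : ∀ ρ : O₁, IsPPart 2 (x * (ρ : G)) x := by
    intro ρ
    refine ⟨ρ, rfl, (mem_centralizer_singleton_iff.1 (mem_inf.1 ρ.2).2).symm, hx, fun h => ?_⟩
    exact Nat.not_even_iff_odd.2 hodd (even_iff_two_dvd.2 (h.trans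
      ((Subgroup.orderOf_mk (ρ : G) (mem_inf.1 ρ.2).1).symm.dvd.trans (orderOf_dvd_natCard _))))
  have hfib : ∀ v : O, (Finset.univ.filter fun w => Φ w = v).card ≤ Nat.card O₁ := by
    intro v
    rcases Finset.eq_empty_or_nonempty (Finset.univ.filter fun w => Φ w = v) with h | ⟨w₀, hw₀⟩
    · rw [h]; simp
    have hE : ∀ w, Φ w = v → (w.1 : G) * (x * w.2) * (w.1 : G)⁻¹ = x * v := by
      intro w hw
      rw [← hw]
      exact (mul_inv_cancel_left _ _).symm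
    have h0 := hE w₀ (Finset.mem_filter.1 hw₀).2
    have hc : ∀ w, Φ w = v → (w₀.1 : G)⁻¹ * w.1 ∈ O₁ ∧
        (w₀.2 : G) = (w₀.1 : G)⁻¹ * w.1 * w.2 * ((w₀.1 : G)⁻¹ * w.1)⁻¹ := by
      intro w hw
      set c := (w₀.1 : G)⁻¹ * w.1 with hcdef
      have hconj : c * (x * w.2) * c⁻¹ = x * w₀.2 := by
        calc c * (x * w.2) * c⁻¹ = (w₀.1 : G)⁻¹ * ((w.1 : G) * (x * w.2) * (w.1 : G)⁻¹) * w₀.1 := by
              rw [hcdef]; group
          _ = x * w₀.2 := by rw [hE w hw, ← h0]; group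
      have hxc : c * x * c⁻¹ = x :=
        Blocks.isPPart_unique (hconj ▸ Blocks.isPPart_conj (hpp w.2) c) (hpp w₀.2)
      refine ⟨mem_inf.2 ⟨mul_mem (inv_mem w₀.1.2) w.1.2,
        mem_centralizer_singleton_iff.2 (mul_inv_eq_iff_eq_mul.1 hxc)⟩, ?_⟩
      refine mul_left_cancel (a := x) ?_
      rw [← hconj]
      calc c * (x * w.2) * c⁻¹ = c * x * c⁻¹ * (c * w.2 * c⁻¹) := by group
        _ = x * (c * w.2 * c⁻¹) := by rw [hxc]
    rw [Nat.card_eq_fintype_card, ← Finset.card_univ]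
    refine Finset.card_le_card_of_injOn
      (fun w => if h : Φ w = v then (⟨_, (hc w h).1⟩ : O₁) else 1) (fun w _ => Finset.mem_univ _) ?_
    intro w hw w' hw' h
    have hw : Φ w = v := (Finset.mem_filter.1 hw).2
    have hw' : Φ w' = v := (Finset.mem_filter.1 hw').2
    simp only [dif_pos hw, dif_pos hw', Subtype.mk.injEq] at h
    have h2 := (hc w hw).2
    rw [(hc w' hw').2, h] at h2
    exact Prod.ext (Subtype.ext (mul_left_cancel h))
      (Subtype.ext (mul_left_cancel (mul_right_cancel h2)).symm)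
  have htot : ∑ v : O, (Finset.univ.filter fun w => Φ w = v).card = ∑ _v : O, Nat.card O₁ := by
    rw [← Finset.card_eq_sum_card_fiberwise (fun w _ => Finset.mem_univ _), Finset.card_univ,
      Finset.sum_const, Finset.card_univ, Fintype.card_prod, Nat.card_eq_fintype_card, smul_eq_mul]
  have heq := (Finset.sum_eq_sum_iff_of_le fun v _ => hfib v).1 htot
  calc (∑ ρ : O, f (x * ρ)) * Nat.card O₁
      = ∑ v : O, ∑ w ∈ Finset.univ.filter (fun w => Φ w = v), f (x * (v : G)) := by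
        rw [Finset.sum_mul]
        refine Finset.sum_congr rfl fun v _ => ?_
        rw [Finset.sum_const, heq v (Finset.mem_univ v), smul_eq_mul, mul_comm]
    _ = ∑ w : O × O₁, f (x * (Φ w : G)) := by
        rw [← Finset.sum_fiberwise Finset.univ Φ]
        refine Finset.sum_congr rfl fun v _ => Finset.sum_congr rfl fun w hw => ?_
        rw [(Finset.mem_filter.1 hw).2]
    _ = _ := by
        rw [Fintype.sum_prod_type, ← Finset.card_univ.trans (Nat.card_eq_fintype_card (α := O)).symm,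
          ← smul_eq_mul, ← Finset.sum_const]
        refine Finset.sum_congr rfl fun u _ => Finset.sum_congr rfl fun ρ _ => ?_
        show f (x * (x⁻¹ * ((u : G) * (x * ρ) * (u : G)⁻¹))) = _
        rw [mul_inv_cancel_left, hf u u.2]

namespace DSylow

variable {P : Sylow 2 G} {σ τ : G} {q : ℕ} (D : DSylow P σ τ q)
include D

theorem σ_ne : σ ≠ 1 := fun h => D.σ_sq_ne (by rw [h, one_mul])

theorem σ_ne_J : σ ≠ D.J := fun h => D.σ_sq_ne (h ▸ D.JJ)

theorem orderJ : orderOf D.J = 2 := orderOf_eq_prime (by rw [pow_two, D.JJ]) D.J_ne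

theorem commute_J_of_commute_σ {u : G} (hu : u * σ = σ * u) : u * D.J = D.J * u :=
  ((show Commute u σ from hu).pow_right q).eq

theorem oc_σ_eq : oc σ = oc D.J ⊓ centralizer ({σ} : Set G) := by
  haveI : Fact (Nat.Prime 2) := ⟨Nat.prime_two⟩
  have hodd : ∀ {z u : G}, u ∈ oc z → ¬ 2 ∣ orderOf u := fun {z u} hu h =>
    Nat.not_even_iff_odd.2 (KleinOrder.odd_card_O z) (even_iff_two_dvd.2 (h.trans
      ((Subgroup.orderOf_mk u hu).symm.dvd.trans (orderOf_dvd_natCard _))))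
  ext u
  rw [mem_inf]
  constructor
  · intro hu
    have huσ := mem_centralizer_singleton_iff.1 (KleinOrder.O_le σ hu)
    exact ⟨D.mem_oc_of_odd D.J_mem D.J_ne (D.commute_J_of_commute_σ huσ) (hodd hu),
      mem_centralizer_singleton_iff.2 huσ⟩
  · rintro ⟨hu, huσ⟩
    exact D.mem_oc_of_odd (mem_zpowers σ) D.σ_ne (mem_centralizer_singleton_iff.1 huσ) (hodd hu)

theorem P_norm {z : G} (hz : z ∈ zpowers σ) (h1 : z ≠ 1) :
    ∀ p ∈ (P : Subgroup G), ∀ u ∈ oc z, p * u * p⁻¹ ∈ oc z :=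
  fun _ hp _ hu => D.P_normalizes_oc hz h1 hp hu

theorem inv_of_refl {a : G} {O : Subgroup G} (hodd : Odd (Nat.card O))
    (h : IsRefl (σ := σ) (τ := τ) (q := q) O a) : a ≠ 1 := by
  rintro rfl
  obtain ⟨k, -, hk⟩ := h
  rw [mul_one] at hk
  have := D.eq_one_of_mem hodd (inv_mem (D.refl_mem_P k)) hk
  rw [inv_eq_one] at this
  exact D.τ_notMem (eq_inv_of_mul_eq_one_left this ▸ inv_mem (pow_mem (mem_zpowers σ) k))

/-- The inverted elements: a pair of involutions with product in `x · oc x` inverts `x`. -/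
theorem inverts_of_pair {x : G} (hx : ∃ k : ℕ, orderOf x = 2 ^ k) {a b : G} (ha : a * a = 1)
    (hb : b * b = 1) (hab : x⁻¹ * (a * b) ∈ oc x) : a * x * a = x⁻¹ := by
  haveI : Fact (Nat.Prime 2) := ⟨Nat.prime_two⟩
  set ρ := x⁻¹ * (a * b) with hρ
  have hcomm : Commute x ρ := (mem_centralizer_singleton_iff.1 (KleinOrder.O_le x hab)).symm
  have hρodd : ¬ 2 ∣ orderOf ρ := fun h =>
    Nat.not_even_iff_odd.2 (KleinOrder.odd_card_O x) (even_iff_two_dvd.2 (h.trans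
      ((Subgroup.orderOf_mk ρ hab).symm.dvd.trans (orderOf_dvd_natCard _))))
  have hp : IsPPart 2 (a * b) x := ⟨ρ, mul_inv_cancel_left _ _, hcomm, hx, hρodd⟩
  have hai : a⁻¹ = a := inv_eq_of_mul_eq_one_right ha
  have h1 : IsPPart 2 (a * (a * b) * a⁻¹) (a * x * a⁻¹) := Blocks.isPPart_conj hp a
  have h2 : IsPPart 2 (a * b)⁻¹ x⁻¹ := by
    refine ⟨ρ⁻¹, ?_, hcomm.inv_inv, by simpa using hx, by simpa using hρodd⟩
    rw [(hcomm.inv_inv).eq, ← _root_.mul_inv_rev, mul_inv_cancel_left]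
  have h3 : a * (a * b) * a⁻¹ = (a * b)⁻¹ := by
    rw [← mul_assoc a a b, ha, one_mul, _root_.mul_inv_rev, hai, inv_eq_of_mul_eq_one_right hb]
  rw [h3] at h1
  have := Blocks.isPPart_unique h1 h2
  rwa [hai] at this

/-- A pair of involutions with product in `x · oc x`, `x` a rotation, lies in reflection cosets. -/
theorem isRefl_of_pair {x : G} (hx : x ∈ zpowers σ) (h1 : x ≠ 1) {a b : G} (ha : a * a = 1)
    (ha1 : a ≠ 1) (hb : b * b = 1) (hb1 : b ≠ 1) (hab : x⁻¹ * (a * b) ∈ oc x) :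
    IsRefl (σ := σ) (τ := τ) (q := q) (oc x) a := by
  have hodd := KleinOrder.odd_card_O (G := G) x
  have hinv := D.inverts_of_pair (D.exists_order_pow (D.rot_le hx)) ha hb hab
  have hτa : τ * a * x = x * (τ * a) := by
    have hai : a⁻¹ = a := inv_eq_of_mul_eq_one_right ha
    have hax : a * x = x⁻¹ * a := by rw [← hinv, mul_assoc _ a a, ha, mul_one]
    rw [mul_assoc, hax, ← mul_assoc τ, show τ * x⁻¹ = x * τ by
      rw [← D.inverts hx, ← mul_assoc, ← mul_assoc, D.ττ, one_mul], mul_assoc]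
  obtain ⟨p, hp, hpx, ρ, hρ, heq⟩ := D.exists_decomp hx h1 hτa
  have haeq : a = τ * p * ρ := by rw [mul_assoc, ← heq, ← mul_assoc, D.ττ, one_mul]
  have hrot : ∀ z ∈ zpowers σ, ∃ k < 2 * q, σ ^ k = z := by
    intro z hz
    obtain ⟨i, rfl⟩ := mem_zpowers_iff.1 hz
    have h0 : (0 : ℤ) < ((2 * q : ℕ) : ℤ) := by have := D.q_pos; positivity
    refine ⟨(i % ((2 * q : ℕ) : ℤ)).toNat, ?_, ?_⟩
    · have := Int.emod_lt_of_pos i h0
      have := Int.emod_nonneg i h0.ne'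
      omega
    · rw [← zpow_natCast, Int.toNat_of_nonneg (Int.emod_nonneg i h0.ne'), ← D.orderσ, zpow_mod_orderOf]
  rcases D.decomp p hp with hpσ | hpσ
  · obtain ⟨k, hk, rfl⟩ := hrot p hpσ
    exact ⟨k, hk, by rw [haeq, inv_mul_cancel_left]; exact hρ⟩
  -- otherwise x = J and a would be J
  exfalso
  have hx2 : x * x = 1 := by
    by_contra h
    have := D.mem_of_commute hp hx h hpx
    exact D.τ_notMem ((mul_mem_cancel_right this).1 hpσ)
  have hxJ : x = D.J := ((D.sq_eq_one_iff hx).1 hx2).resolve_left h1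
  subst hxJ
  set z := τ * p with hz
  have hzρ : z⁻¹ * ρ * z ∈ oc D.J := by
    have := D.P_normalizes_oc hx h1 (inv_mem (D.rot_le hpσ)) hρ
    rwa [inv_inv] at this
  have hzz : z * z = 1 := by
    refine D.eq_one_of_mem hodd (mul_mem (D.rot_le hpσ) (D.rot_le hpσ)) ?_
    have h' : z * z * (z⁻¹ * ρ * z * ρ) = 1 := by rw [← ha, haeq]; group
    rw [eq_inv_of_mul_eq_one_left h']
    exact inv_mem (mul_mem hzρ hρ)
  rcases (D.sq_eq_one_iff hpσ).1 hzz with hz1 | hzJ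
  · rw [hz1, one_mul] at haeq
    exact ha1 (KleinOrder.eq_one_of_mem_O ha (haeq ▸ hρ))
  · have hρJ : ρ * D.J = D.J * ρ := mem_centralizer_singleton_iff.1 (KleinOrder.O_le _ hρ)
    have hρ1 : ρ = 1 := by
      refine KleinOrder.eq_one_of_mem_O ?_ hρ
      rw [hzJ] at haeq
      rw [← ha, haeq, show D.J * ρ * (D.J * ρ) = D.J * (ρ * D.J) * ρ by group, hρJ, ← mul_assoc,
        D.JJ, one_mul]
    rw [hρ1, mul_one, hzJ] at haeq
    rw [haeq, ← mul_assoc, inv_eq_of_mul_eq_one_right D.JJ, D.JJ, one_mul] at hab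
    exact hb1 (KleinOrder.eq_one_of_mem_O hb hab)

/-- Pairs of involutions in the section of a rotation. -/
theorem card_section (l : ℕ) (h1 : σ ^ l ≠ 1) :
    Nat.card {w : G × G // orderOf w.1 = 2 ∧ orderOf w.2 = 2 ∧
        (σ ^ l)⁻¹ * (w.1 * w.2) ∈ oc (σ ^ l)} =
      Nat.card {w : G × G // w.1 * w.1 = 1 ∧ IsRefl (σ := σ) (τ := τ) (q := q) (oc (σ ^ l)) w.1 ∧
        w.2 * w.2 = 1 ∧ (σ ^ l)⁻¹ * (w.1 * w.2) ∈ oc (σ ^ l)} := by
  have hx : σ ^ l ∈ zpowers σ := pow_mem (mem_zpowers σ) l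
  have hodd : Odd (Nat.card (oc (σ ^ l))) := KleinOrder.odd_card_O _
  have h2 : ∀ a : G, orderOf a = 2 ↔ a * a = 1 ∧ a ≠ 1 := fun a => by
    constructor
    · intro h
      refine ⟨by rw [← pow_two, ← h, pow_orderOf_eq_one], fun e => ?_⟩
      rw [e, orderOf_one] at h; omega
    · exact fun h => orderOf_eq_prime (by rw [pow_two, h.1]) h.2
  refine Nat.card_congr (Equiv.subtypeEquivRight fun w => ⟨?_, ?_⟩)
  · rintro ⟨ha, hb, hab⟩
    rw [h2] at ha hb
    exact ⟨ha.1, D.isRefl_of_pair hx h1 ha.1 ha.2 hb.1 hb.2 hab, hb.1, hab⟩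
  · rintro ⟨ha, hR, hb, hab⟩
    refine ⟨(h2 _).2 ⟨ha, D.inv_of_refl hodd hR⟩, (h2 _).2 ⟨hb, ?_⟩, hab⟩
    intro hb1
    obtain ⟨k, -, hk⟩ := hR
    have hkl := (D.mem_iff_snd (D.P_norm hx h1) ha hk).1 hab
    rw [hb1, mul_one] at hkl
    have := D.eq_one_of_mem hodd (inv_mem (D.refl_mem_P _)) hkl
    rw [inv_eq_one] at this
    exact D.τ_notMem (eq_inv_of_mul_eq_one_left this ▸ inv_mem (pow_mem (mem_zpowers σ) _))

theorem inf_centralizer_swap :
    oc σ ⊓ centralizer ({σ * τ} : Set G) = oc σ ⊓ centralizer ({τ} : Set G) := by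
  ext u
  rw [mem_inf, mem_inf, mem_centralizer_singleton_iff, mem_centralizer_singleton_iff]
  refine and_congr_right fun hu => ?_
  have huσ : Commute u σ := mem_centralizer_singleton_iff.1 (KleinOrder.O_le σ hu)
  constructor
  · intro h
    have h' := (huσ.inv_right.mul_right (show Commute u (σ * τ) from h)).eq
    rwa [inv_mul_cancel_left] at h'
  · exact fun h => (huσ.mul_right (show Commute u τ from h)).eq

/-- The involution counts in `oc σ` agree. -/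
theorem cosetInv_σ_swap : cosetInv (oc σ) (σ * τ) = cosetInv (oc σ) τ := by
  have hodd := KleinOrder.odd_card_O (G := G) σ
  have hn := D.P_norm (mem_zpowers σ) D.σ_ne
  have h1 := D.card_refl hodd hn τ D.τ_mem D.ττ
  have h2 := D.card_refl hodd hn (σ * τ) (mul_mem D.σ_mem D.τ_mem) D.στ_sq
  rw [D.inf_centralizer_swap] at h2
  exact Nat.eq_of_mul_eq_mul_right Nat.card_pos (h2.trans h1.symm)

/-- The fixed-point formula for the dihedral action on `oc J`. -/
theorem fixed_point_formula :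
    cosetInv (oc D.J) τ * cosetInv (oc D.J) (σ * τ) * Nat.card (oc σ) =
      cosetInv (oc σ) τ ^ 2 * Nat.card (oc D.J) := by
  classical
  have hodd : Odd (Nat.card (oc D.J)) := KleinOrder.odd_card_O D.J
  have hodd1 : Odd (Nat.card (oc σ)) := KleinOrder.odd_card_O σ
  have hn := D.P_norm D.J_mem D.J_ne
  have hn1 := D.P_norm (mem_zpowers σ) D.σ_ne
  haveI := Fintype.ofFinite (oc D.J)
  haveI := Fintype.ofFinite ↥(oc D.J ⊓ centralizer ({σ} : Set G))
  haveI := Fintype.ofFinite G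
  let f : G → ℕ := fun y => Nat.card
    {a : G // a * a = 1 ∧ IsRefl (σ := σ) (τ := τ) (q := q) (oc D.J) a ∧ a * y * (a * y) = 1}
  have hf : ∀ u ∈ oc D.J, ∀ g, f (u * g * u⁻¹) = f g := by
    intro u hu g
    refine Nat.card_congr ((MulAut.conj u).toEquiv.symm.subtypeEquiv fun a => ?_)
    show a * a = 1 ∧ IsRefl (σ := σ) (τ := τ) (q := q) (oc D.J) a ∧
        a * (u * g * u⁻¹) * (a * (u * g * u⁻¹)) = 1 ↔
      u⁻¹ * a * u * (u⁻¹ * a * u) = 1 ∧ IsRefl (σ := σ) (τ := τ) (q := q) (oc D.J) (u⁻¹ * a * u) ∧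
        u⁻¹ * a * u * g * (u⁻¹ * a * u * g) = 1
    have hc : ∀ z : G, u⁻¹ * z * u = 1 ↔ z = 1 := fun z => by
      refine ⟨fun h => ?_, fun h => by rw [h]; group⟩
      calc z = u * (u⁻¹ * z * u) * u⁻¹ := by group
        _ = 1 := by rw [h]; group
    refine and_congr ?_ (and_congr ?_ ?_)
    · rw [show u⁻¹ * a * u * (u⁻¹ * a * u) = u⁻¹ * (a * a) * u by group, hc]
    · refine exists_congr fun k => and_congr_right fun _ => ?_
      rw [show (τ * σ ^ k)⁻¹ * (u⁻¹ * a * u) =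
        (τ * σ ^ k)⁻¹ * u⁻¹ * (τ * σ ^ k) * ((τ * σ ^ k)⁻¹ * a) * u by group,
        Subgroup.mul_mem_cancel_right _ hu]
      have := hn _ (inv_mem (D.refl_mem_P k)) _ (inv_mem hu)
      rw [inv_inv] at this
      exact (Subgroup.mul_mem_cancel_left _ this).symm
    · rw [show u⁻¹ * a * u * g * (u⁻¹ * a * u * g) =
        u⁻¹ * (a * (u * g * u⁻¹) * (a * (u * g * u⁻¹))) * u by group, hc]
  have key := sum_coset_eq hodd (D.exists_order_pow D.σ_mem)
    (fun u hu => by simpa using hn σ⁻¹ (inv_mem D.σ_mem) u hu) f hf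
  have hfib : ∀ (O' : Subgroup G) [Fintype O'], ∑ ρ : O', f (σ * ρ) =
      Nat.card {w : G × G // w.1 * w.1 = 1 ∧ IsRefl (σ := σ) (τ := τ) (q := q) (oc D.J) w.1 ∧
        w.2 * w.2 = 1 ∧ (σ ^ 1)⁻¹ * (w.1 * w.2) ∈ O'} := by
    intro O' _
    rw [pow_one]
    simp only [f]
    rw [← Nat.card_sigma]
    refine Nat.card_congr
      { toFun := fun z => ⟨(z.2.1, z.2.1 * (σ * z.1)), z.2.2.1, z.2.2.2.1, z.2.2.2.2, ?_⟩
        invFun := fun w => ⟨⟨σ⁻¹ * (w.1.1 * w.1.2), w.2.2.2.2⟩, w.1.1, w.2.1, w.2.2.1, ?_⟩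
        left_inv := ?_
        right_inv := ?_ }
    · rw [← mul_assoc z.2.1 z.2.1, z.2.2.1, one_mul, inv_mul_cancel_left]
      exact z.1.2
    · show w.1.1 * (σ * (σ⁻¹ * (w.1.1 * w.1.2))) * (w.1.1 * (σ * (σ⁻¹ * (w.1.1 * w.1.2)))) = 1
      rw [mul_inv_cancel_left, ← mul_assoc w.1.1, w.2.1, one_mul, w.2.2.2.1]
    · rintro ⟨ρ, a, ha, hR, hb⟩
      have e : σ⁻¹ * (a * (a * (σ * (ρ : G)))) = ρ := by
        rw [← mul_assoc a a, ha, one_mul, inv_mul_cancel_left]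
      refine Sigma.subtype_ext (Subtype.ext e) rfl
    · rintro ⟨⟨a, b⟩, ha, hR, hb, hab⟩
      refine Subtype.ext (Prod.ext rfl ?_)
      show a * (σ * (σ⁻¹ * (a * b))) = b
      rw [mul_inv_cancel_left, ← mul_assoc, ha, one_mul]
  have hone : ¬ Even 1 := by decide
  have hbig := (hfib (oc D.J)).trans (D.card_pairs_odd hodd hn hone)
  have hsmall : ∑ ρ : ↥(oc D.J ⊓ centralizer ({σ} : Set G)), f (σ * ρ) =
      2 * q * (cosetInv (oc σ) τ * cosetInv (oc σ) τ) := by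
    rw [hfib]
    nth_rewrite 2 [← D.cosetInv_σ_swap]
    rw [← D.card_pairs_odd hodd1 hn1 hone]
    refine Nat.card_congr (Equiv.subtypeEquivRight fun w => ⟨?_, ?_⟩)
    · rintro ⟨ha, ⟨k, hk, hak⟩, hb, hab⟩
      rw [pow_one, ← D.oc_σ_eq] at hab
      refine ⟨ha, ⟨k, hk, ?_⟩, hb, by rwa [pow_one]⟩
      -- the odd part of a centralises σ
      rw [D.oc_σ_eq]
      refine mem_inf.2 ⟨hak, mem_centralizer_singleton_iff.2 ?_⟩
      have hinv := D.inverts_of_pair (D.exists_order_pow D.σ_mem) ha hb hab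
      have hai : w.1⁻¹ = w.1 := inv_eq_of_mul_eq_one_right ha
      have hr := D.refl_conj (y := τ * σ ^ k) (z := σ⁻¹)
        (by rw [← mul_assoc, D.ττ, one_mul]; exact pow_mem (mem_zpowers σ) k)
        (inv_mem (mem_zpowers σ))
      rw [D.refl_inv, inv_inv] at hr
      rw [D.refl_inv k]
      calc τ * σ ^ k * w.1 * σ = τ * σ ^ k * (w.1 * σ * w.1) * w.1⁻¹ := by group
        _ = τ * σ ^ k * σ⁻¹ * (τ * σ ^ k) * ((τ * σ ^ k)⁻¹ * w.1⁻¹) := by rw [hinv]; group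
        _ = σ * (τ * σ ^ k * w.1) := by rw [hr, D.refl_inv, hai]
    · rintro ⟨ha, ⟨k, hk, hak⟩, hb, hab⟩
      rw [D.oc_σ_eq] at hak hab
      exact ⟨ha, ⟨k, hk, (mem_inf.1 hak).1⟩, hb, hab⟩
  rw [hbig, hsmall, ← D.oc_σ_eq] at key
  have h2q : 0 < 2 * q := by have := D.q_pos; omega
  refine Nat.eq_of_mul_eq_mul_left h2q ?_
  linear_combination key

theorem card_centralizer_J :
    Nat.card (centralizer ({D.J} : Set G)) = 4 * q * Nat.card (oc D.J) := by
  haveI : Fact (Nat.Prime 2) := ⟨Nat.prime_two⟩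
  obtain ⟨⟨k, hk⟩, -, hfac⟩ := D.spec_J
  have hodd : Odd (Nat.card (oc D.J)) := KleinOrder.odd_card_O D.J
  have hO : Nat.card (oc D.J) = Nat.card (pPrimeCore 2 (centralizer ({D.J} : Set G))) :=
    Subgroup.card_subtype _ _
  rw [hO] at hodd ⊢
  rw [← (pPrimeCore 2 (centralizer ({D.J} : Set G))).card_mul_index, hk] at hfac ⊢
  have h2 : ¬ 2 ∣ Nat.card (pPrimeCore 2 (centralizer ({D.J} : Set G))) := fun h =>
    Nat.not_even_iff_odd.2 hodd (even_iff_two_dvd.2 h)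
  rw [Nat.factorization_mul Nat.card_pos.ne' (pow_ne_zero _ two_ne_zero), Finsupp.add_apply,
    Nat.factorization_eq_zero_of_not_dvd h2, Nat.prime_two.factorization_pow,
    Finsupp.single_eq_same, zero_add] at hfac
  rw [hfac]
  ring

theorem card_centralizer_pair :
    Nat.card (centralizer ({D.J, τ} : Set G)) =
      4 * Nat.card ↥(oc D.J ⊓ centralizer ({τ} : Set G)) := by
  have hodd : Odd (Nat.card (oc D.J)) := KleinOrder.odd_card_O D.J
  let Z := {p : G // p ∈ (P : Subgroup G) ∧ p * τ = τ * p}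
  have hτJ : τ ≠ D.J := fun h => D.τ_notMem (h ▸ D.J_mem)
  have hJi : D.J⁻¹ = D.J := inv_eq_of_mul_eq_one_right D.JJ
  have hτ1 : τ ≠ 1 := fun h => D.τ_notMem (h ▸ one_mem _)
  have hτJ1 : τ * D.J ≠ 1 := fun h => D.τ_notMem (by
    rw [eq_inv_of_mul_eq_one_left h]; exact inv_mem D.J_mem)
  have hτi : τ⁻¹ = τ := inv_eq_of_mul_eq_one_right D.ττ
  have hZ : ∀ p : G, (p ∈ (P : Subgroup G) ∧ p * τ = τ * p) ↔
      p = 1 ∨ p = D.J ∨ p = τ ∨ p = τ * D.J := by
    intro p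
    constructor
    · rintro ⟨hp, hc⟩
      rcases D.decomp p hp with h | h
      · have h2 : p * p = 1 := mul_eq_one_iff_eq_inv.2 (by
          rw [← D.inverts h, ← hc, mul_assoc, D.ττ, mul_one])
        exact ((D.sq_eq_one_iff h).1 h2).imp_right Or.inl
      · have h2 : τ * p * (τ * p) = 1 := mul_eq_one_iff_eq_inv.2 (by
          rw [← D.inverts h]
          calc τ * p = p * τ := hc.symm
            _ = τ * (τ * p) * τ := by rw [← mul_assoc τ τ, D.ττ, one_mul])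
        rcases (D.sq_eq_one_iff h).1 h2 with e | e
        · exact Or.inr (Or.inr (Or.inl (by rw [D.eq_tau_mul p, e, mul_one])))
        · exact Or.inr (Or.inr (Or.inr (by rw [D.eq_tau_mul p, e])))
    · have hJτ : D.J * τ = τ * D.J := ((D.J_central D.τ_mem)).symm
      rintro (rfl | rfl | rfl | rfl)
      · exact ⟨one_mem _, by rw [one_mul, mul_one]⟩
      · exact ⟨D.rot_le D.J_mem, hJτ⟩
      · exact ⟨D.τ_mem, rfl⟩
      · exact ⟨mul_mem D.τ_mem (D.rot_le D.J_mem), by rw [mul_assoc, hJτ]⟩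
  have hcardZ : Nat.card Z = 4 := by
    rw [Nat.card_congr (Equiv.subtypeEquivRight hZ)]
    rw [show {p : G // p = 1 ∨ p = D.J ∨ p = τ ∨ p = τ * D.J} =
      ↥({1, D.J, τ, τ * D.J} : Set G) from rfl, Nat.card_coe_set_eq, Set.ncard_eq_succ]
    refine ⟨1, {D.J, τ, τ * D.J}, ?_, rfl, Set.ncard_eq_three.2
      ⟨_, _, _, hτJ.symm, fun h => hτ1 (mul_eq_right.1 h.symm), fun h => D.J_ne (mul_eq_left.1 h.symm),
        rfl⟩⟩
    simp only [Set.mem_insert_iff, Set.mem_singleton_iff, not_or]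
    exact ⟨D.J_ne.symm, hτ1.symm, hτJ1.symm⟩
  rw [← hcardZ, ← Nat.card_prod]
  have hmem : ∀ g : G, g ∈ centralizer ({D.J, τ} : Set G) ↔ g * D.J = D.J * g ∧ g * τ = τ * g := by
    intro g
    rw [mem_centralizer_iff]
    simp only [Set.mem_insert_iff, Set.mem_singleton_iff, forall_eq_or_imp, forall_eq]
    exact and_congr eq_comm eq_comm
  refine (Nat.card_congr (Equiv.ofBijective (fun w : Z × ↥(oc D.J ⊓ centralizer ({τ} : Set G)) =>
    (⟨w.1.1 * w.2.1, (hmem _).2 ⟨?_, ?_⟩⟩ : centralizer ({D.J, τ} : Set G))) ⟨?_, ?_⟩)).symm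
  · exact ((show Commute w.1.1 D.J from D.J_central w.1.2.1).mul_left
      (show Commute w.2.1 D.J from mem_centralizer_singleton_iff.1
        (KleinOrder.O_le _ (mem_inf.1 w.2.2).1))).eq
  · exact ((show Commute w.1.1 τ from w.1.2.2).mul_left
      (show Commute w.2.1 τ from mem_centralizer_singleton_iff.1 (mem_inf.1 w.2.2).2)).eq
  · rintro ⟨⟨p, hp⟩, ⟨u, hu⟩⟩ ⟨⟨p', hp'⟩, ⟨u', hu'⟩⟩ h
    have h' : p * u = p' * u' := congrArg Subtype.val h
    have h1 : p'⁻¹ * p = u' * u⁻¹ := by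
      calc p'⁻¹ * p = p'⁻¹ * (p * u) * u⁻¹ := by group
        _ = u' * u⁻¹ := by rw [h']; group
    have h2 := D.eq_one_of_mem hodd (mul_mem (inv_mem hp'.1) hp.1)
      (h1 ▸ mul_mem (mem_inf.1 hu').1 (inv_mem (mem_inf.1 hu).1))
    obtain rfl := inv_mul_eq_one.1 h2
    obtain rfl := mul_left_cancel h'
    rfl
  · rintro ⟨g, hg⟩
    obtain ⟨hgJ, hgτ⟩ := (hmem g).1 hg
    obtain ⟨p, hp, -, u, hu, rfl⟩ := D.exists_decomp D.J_mem D.J_ne hgJ
    set p' := τ * p * τ⁻¹ with hp'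
    have hp'm : p' ∈ (P : Subgroup G) := mul_mem (mul_mem D.τ_mem hp) (inv_mem D.τ_mem)
    set u' := τ * u * τ⁻¹ with hu'
    have hu'm : u' ∈ oc D.J := D.P_normalizes_oc D.J_mem D.J_ne D.τ_mem hu
    have heq : p * u = p' * u' := by
      rw [hp', hu', show τ * p * τ⁻¹ * (τ * u * τ⁻¹) = τ * (p * u) * τ⁻¹ by group, ← hgτ,
        mul_inv_cancel_right]
    have h1 : p'⁻¹ * p = u' * u⁻¹ := by
      calc p'⁻¹ * p = p'⁻¹ * (p * u) * u⁻¹ := by group
        _ = u' * u⁻¹ := by rw [heq]; group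
    have h2 := inv_mul_eq_one.1 (D.eq_one_of_mem hodd (mul_mem (inv_mem hp'm) hp)
      (h1 ▸ mul_mem hu'm (inv_mem hu)))
    have hpτ : p * τ = τ * p := by
      conv_lhs => rw [← h2, hp']
      group
    have huτ : u * τ = τ * u := by
      have h3 : u' = u := mul_left_cancel (a := p) (heq.trans (by rw [h2])).symm
      conv_lhs => rw [← h3, hu']
      group
    exact ⟨(⟨p, hp, hpτ⟩, ⟨u, mem_inf.2 ⟨hu, mem_centralizer_singleton_iff.2 huτ⟩⟩), rfl⟩

end DSylow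

end Cfsg.Agent.Lib.DihedralBlock
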