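import Cfsg.Agent.Lib.DihedralBlock.Centralizer
import Cfsg.Agent.Lib.RankOne.OddGroup

/-!
# Involutions in the reflection cosets of an odd subgroup normalised by `P`
-/

set_option autoImplicit false
set_option linter.unusedSectionVars false

namespace Cfsg.Agent.Lib.DihedralBlock

open Subgroup
open Cfsg
open Cfsg.Agent.Lib

variable {G : Type*} [Group G] [Finite G]

/-- The number of involutions in the coset `y · O`. -/
noncomputable def cosetInv (O : Subgroup G) (y : G) : ℕ :=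
  Nat.card {a : G // a * a = 1 ∧ y⁻¹ * a ∈ O}

theorem cosetInv_mul_fixed {O : Subgroup G} (hodd : Odd (Nat.card O)) {y : G} (hy : y * y = 1)
    (hn : ∀ u ∈ O, y * u * y ∈ O) :
    cosetInv O y * Nat.card ↥(O ⊓ centralizer ({y} : Set G)) = Nat.card O := by
  have hyi : y⁻¹ = y := inv_eq_of_mul_eq_one_right hy
  have key : ∀ a : G, a * a = 1 → y * (y⁻¹ * a) * y = (y⁻¹ * a)⁻¹ := fun a ha => by
    rw [mul_inv_cancel_left, _root_.mul_inv_rev, inv_inv, inv_eq_of_mul_eq_one_right ha]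
  have e : {a : G // a * a = 1 ∧ y⁻¹ * a ∈ O} ≃ Cfsg.invertedBy O y :=
    { toFun := fun a => ⟨y⁻¹ * a.1, (RankOne.mem_invertedBy hy).2 ⟨a.2.2, key a.1 a.2.1⟩⟩
      invFun := fun v => ⟨y * v.1, by
        rw [show y * v.1 * (y * v.1) = y * v.1 * y * v.1 by group,
          ((RankOne.mem_invertedBy hy).1 v.2).2, inv_mul_cancel], by
        rw [inv_mul_cancel_left]; exact ((RankOne.mem_invertedBy hy).1 v.2).1⟩
      left_inv := fun a => Subtype.ext (mul_inv_cancel_left _ _)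
      right_inv := fun v => Subtype.ext (inv_mul_cancel_left _ _) }
  rw [cosetInv, Nat.card_congr e, mul_comm, ← Nat.card_prod]
  refine Nat.card_congr (Equiv.ofBijective (fun w : ↥(O ⊓ centralizer ({y} : Set G)) ×
      Cfsg.invertedBy O y => (⟨(w.1 : G) * w.2, mul_mem (mem_inf.1 w.1.2).1
        ((RankOne.mem_invertedBy hy).1 w.2.2).1⟩ : O)) ⟨?_, ?_⟩)
  · rintro ⟨⟨c, hc⟩, v, hv⟩ ⟨⟨c', hc'⟩, v', hv'⟩ h
    obtain ⟨h1, h2⟩ := RankOne.fixed_mul_inverted_unique hodd hy hn (mem_inf.1 hc).1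
      (mem_centralizer_singleton_iff.1 (mem_inf.1 hc).2) hv (mem_inf.1 hc').1
      (mem_centralizer_singleton_iff.1 (mem_inf.1 hc').2) hv' (congrArg Subtype.val h)
    subst h1 h2
    rfl
  · rintro ⟨x, hx⟩
    obtain ⟨c, v, hc, hcy, hv, hxv⟩ := RankOne.exists_fixed_mul_inverted hodd hy hn hx
    exact ⟨⟨⟨c, mem_inf.2 ⟨hc, mem_centralizer_singleton_iff.2 hcy⟩⟩, v, hv⟩, Subtype.ext hxv.symm⟩

theorem cosetInv_conj {O : Subgroup G} {p : G} (hp : ∀ u ∈ O, p * u * p⁻¹ ∈ O)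
    (hp' : ∀ u ∈ O, p⁻¹ * u * p ∈ O) (y : G) :
    cosetInv O (p * y * p⁻¹) = cosetInv O y := by
  refine Nat.card_congr ((MulAut.conj p).toEquiv.symm.subtypeEquiv fun a => ?_)
  show a * a = 1 ∧ (p * y * p⁻¹)⁻¹ * a ∈ O ↔
    p⁻¹ * a * p * (p⁻¹ * a * p) = 1 ∧ y⁻¹ * (p⁻¹ * a * p) ∈ O
  have h1 : p⁻¹ * a * p * (p⁻¹ * a * p) = p⁻¹ * (a * a) * p := by group
  refine and_congr ?_ ?_
  · rw [h1]
    constructor
    · intro h; rw [h]; group
    · intro h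
      calc a * a = p * (p⁻¹ * (a * a) * p) * p⁻¹ := by group
        _ = 1 := by rw [h]; group
  · constructor
    · intro h
      have := hp' _ h
      rwa [show p⁻¹ * ((p * y * p⁻¹)⁻¹ * a) * p = y⁻¹ * (p⁻¹ * a * p) by group] at this
    · intro h
      have := hp _ h
      rwa [show p * (y⁻¹ * (p⁻¹ * a * p)) * p⁻¹ = (p * y * p⁻¹)⁻¹ * a by group] at this

namespace DSylow

variable {P : Sylow 2 G} {σ τ : G} {q : ℕ} (D : DSylow P σ τ q)
include D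

theorem refl_mem_P (k : ℕ) : τ * σ ^ k ∈ (P : Subgroup G) := mul_mem D.τ_mem (pow_mem D.σ_mem k)

theorem refl_mul_self (k : ℕ) : τ * σ ^ k * (τ * σ ^ k) = 1 :=
  D.refl_sq (by rw [← mul_assoc, D.ττ, one_mul]; exact pow_mem (mem_zpowers σ) k)

theorem refl_inv (k : ℕ) : (τ * σ ^ k)⁻¹ = τ * σ ^ k :=
  inv_eq_of_mul_eq_one_right (D.refl_mul_self k)

theorem τσ_inv : σ * τ = τ * σ⁻¹ := by
  rw [← D.rel, ← mul_assoc, ← mul_assoc, D.ττ, one_mul]

theorem στ_sq : σ * τ * (σ * τ) = 1 := by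
  rw [show σ * τ * (σ * τ) = σ * (τ * σ * τ) by group, D.rel, mul_inv_cancel]

/-- The reflection `στ` has the same properties as `τ`. -/
theorem swap : DSylow P σ (σ * τ) q where
  two_le := D.two_le
  isPow := D.isPow
  σ_mem := D.σ_mem
  τ_mem := mul_mem D.σ_mem D.τ_mem
  orderσ := D.orderσ
  ττ := D.στ_sq
  rel := by
    rw [show σ * τ * σ * (σ * τ) = σ * (τ * (σ * σ) * τ) by group,
      D.inverts (mul_mem (mem_zpowers σ) (mem_zpowers σ))]
    group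
  decomp := fun y hy => (D.decomp y hy).imp id fun h => by
    rw [mul_assoc]; exact mul_mem (mem_zpowers σ) h
  τ_notMem := fun h => D.τ_notMem ((mul_mem_cancel_left (mem_zpowers σ)).1 h)
  card := D.card

variable {O : Subgroup G} (hodd : Odd (Nat.card O))
  (hn : ∀ p ∈ (P : Subgroup G), ∀ u ∈ O, p * u * p⁻¹ ∈ O)

include hn in
theorem cosetInv_refl (k : ℕ) :
    cosetInv O (τ * σ ^ k) = if Even k then cosetInv O τ else cosetInv O (σ * τ) := by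
  have hconj : ∀ p ∈ (P : Subgroup G), ∀ y, cosetInv O (p * y * p⁻¹) = cosetInv O y := fun p hp y =>
    cosetInv_conj (hn p hp) (fun u hu => by simpa using hn p⁻¹ (inv_mem hp) u hu) y
  have key : ∀ i : ℕ, σ ^ i * (τ * σ ^ (2 * i)) * (σ ^ i)⁻¹ = τ := by
    intro i
    have h := D.inverts (pow_mem (mem_zpowers σ) i)
    have hc : σ ^ i * τ = τ * (σ ^ i)⁻¹ := by
      rw [← h, ← mul_assoc, ← mul_assoc, D.ττ, one_mul]
    rw [← mul_assoc, hc, show 2 * i = i + i by ring, pow_add]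
    group
  rcases Nat.even_or_odd k with hk | hk
  · obtain ⟨i, rfl⟩ := hk
    rw [if_pos ⟨i, rfl⟩, ← two_mul]
    conv_rhs => rw [← key i, hconj _ (pow_mem D.σ_mem i)]
  · obtain ⟨i, rfl⟩ := hk
    rw [if_neg (Nat.not_even_iff_odd.2 ⟨i, rfl⟩)]
    have : σ ^ (i + 1) * (τ * σ ^ (2 * i + 1)) * (σ ^ (i + 1))⁻¹ = σ * τ := by
      calc σ ^ (i + 1) * (τ * σ ^ (2 * i + 1)) * (σ ^ (i + 1))⁻¹
          = σ * (σ ^ i * (τ * σ ^ (2 * i)) * (σ ^ i)⁻¹) := by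
            rw [pow_succ' σ i, pow_succ σ (2 * i)]; group
        _ = σ * τ := by rw [key]
    rw [← this, hconj _ (pow_mem D.σ_mem _)]

include hn hodd in
theorem card_refl (y : G) (hy : y ∈ (P : Subgroup G)) (h2 : y * y = 1) :
    cosetInv O y * Nat.card ↥(O ⊓ centralizer ({y} : Set G)) = Nat.card O :=
  cosetInv_mul_fixed hodd h2 fun u hu => by
    have := hn y hy u hu
    rwa [inv_eq_of_mul_eq_one_right h2] at this

include hodd in
theorem eq_one_of_mem {p : G} (hp : p ∈ (P : Subgroup G)) (hpO : p ∈ O) : p = 1 := by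
  rw [← orderOf_eq_one_iff]
  obtain ⟨k, hk⟩ := D.exists_order_pow hp
  have h : orderOf p ∣ Nat.card O := (Subgroup.orderOf_mk p hpO).symm.dvd.trans (orderOf_dvd_natCard _)
  rw [hk] at h ⊢
  rcases k with _ | k
  · rfl
  · exact absurd (even_iff_two_dvd.2 ((dvd_pow_self 2 (Nat.succ_ne_zero k)).trans h))
      (Nat.not_even_iff_odd.2 hodd)

/-- `a` lies in a reflection coset of `O`. -/
def IsRefl (O : Subgroup G) (a : G) : Prop := ∃ k < 2 * q, (τ * σ ^ k)⁻¹ * a ∈ O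

theorem pow_mod_rot (k : ℕ) : σ ^ k = σ ^ (k % (2 * q)) := by
  rw [← D.orderσ, pow_mod_orderOf]

include hodd in
theorem refl_unique {a : G} {k k' : ℕ} (hk : k < 2 * q) (hk' : k' < 2 * q)
    (h : (τ * σ ^ k)⁻¹ * a ∈ O) (h' : (τ * σ ^ k')⁻¹ * a ∈ O) : k = k' := by
  have h1 := mul_mem h (inv_mem h')
  rw [show (τ * σ ^ k)⁻¹ * a * ((τ * σ ^ k')⁻¹ * a)⁻¹ = (σ ^ k)⁻¹ * σ ^ k' by group] at h1
  have h2 := D.eq_one_of_mem hodd (mul_mem (inv_mem (pow_mem D.σ_mem k)) (pow_mem D.σ_mem k')) h1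
  exact pow_injOn_Iio_orderOf (by simpa [D.orderσ] using hk) (by simpa [D.orderσ] using hk')
    (inv_mul_eq_one.1 h2)

include hn in
/-- The second involution of a pair. -/
theorem mem_iff_snd {a b : G} {k l : ℕ} (ha : a * a = 1) (hak : (τ * σ ^ k)⁻¹ * a ∈ O) :
    (σ ^ l)⁻¹ * (a * b) ∈ O ↔ (τ * σ ^ (k + l))⁻¹ * b ∈ O := by
  set u := (τ * σ ^ k)⁻¹ * a with hu
  have hau : a = τ * σ ^ k * u := by rw [hu, mul_inv_cancel_left]
  have ha' : a = u⁻¹ * (τ * σ ^ k)⁻¹ := by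
    rw [← _root_.mul_inv_rev, ← hau, inv_eq_of_mul_eq_one_right ha]
  have hux : (σ ^ l)⁻¹ * u⁻¹ * σ ^ l ∈ O := by
    have := hn _ (inv_mem (pow_mem D.σ_mem l)) _ (inv_mem hak)
    rwa [inv_inv] at this
  have e : (σ ^ l)⁻¹ * (a * b) =
      (σ ^ l)⁻¹ * u⁻¹ * σ ^ l * ((τ * σ ^ (k + l))⁻¹ * b) := by
    rw [ha', pow_add]
    group
  rw [e, Subgroup.mul_mem_cancel_left _ hux]

include hn hodd in
/-- Pairs of involutions in reflection cosets with product in `σ ^ l · O`. -/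
theorem card_pairs (l : ℕ) :
    Nat.card {w : G × G // w.1 * w.1 = 1 ∧ IsRefl (σ := σ) (τ := τ) (q := q) O w.1 ∧
        w.2 * w.2 = 1 ∧ (σ ^ l)⁻¹ * (w.1 * w.2) ∈ O} =
      ∑ k ∈ Finset.range (2 * q), cosetInv O (τ * σ ^ k) * cosetInv O (τ * σ ^ (k + l)) := by
  classical
  let A : Fin (2 * q) → Type _ := fun k =>
    {a : G // a * a = 1 ∧ (τ * σ ^ (k : ℕ))⁻¹ * a ∈ O} ×
      {b : G // b * b = 1 ∧ (τ * σ ^ ((k : ℕ) + l))⁻¹ * b ∈ O}
  have e : (Σ k, A k) ≃ {w : G × G // w.1 * w.1 = 1 ∧ IsRefl (σ := σ) (τ := τ) (q := q) O w.1 ∧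
        w.2 * w.2 = 1 ∧ (σ ^ l)⁻¹ * (w.1 * w.2) ∈ O} := by
    refine Equiv.ofBijective (fun z => ⟨(z.2.1.1, z.2.2.1), z.2.1.2.1, ⟨z.1, z.1.2, z.2.1.2.2⟩,
      z.2.2.2.1, (D.mem_iff_snd hn z.2.1.2.1 z.2.1.2.2).2 z.2.2.2.2⟩) ⟨?_, ?_⟩
    · rintro ⟨⟨k, hk⟩, ⟨a, ha⟩, ⟨b, hb⟩⟩ ⟨⟨k', hk'⟩, ⟨a', ha'⟩, ⟨b', hb'⟩⟩ h
      simp only [Subtype.mk.injEq, Prod.mk.injEq] at h
      obtain ⟨rfl, rfl⟩ := h
      obtain rfl := D.refl_unique hodd hk hk' ha.2 ha'.2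
      rfl
    · rintro ⟨⟨a, b⟩, ha, ⟨k, hk, hak⟩, hb, hab⟩
      exact ⟨⟨⟨k, hk⟩, ⟨a, ha, hak⟩, ⟨b, hb, (D.mem_iff_snd hn ha hak).1 hab⟩⟩, rfl⟩
  rw [← Nat.card_congr e, Nat.card_sigma, Finset.sum_range]
  exact Finset.sum_congr rfl fun k _ => Nat.card_prod _ _

end DSylow

theorem sum_range_parity (A B n : ℕ) :
    ∑ k ∈ Finset.range (2 * n), (if Even k then A else B) = n * (A + B) := by
  induction n with
  | zero => simp
  | succ n ih =>
    rw [show 2 * (n + 1) = 2 * n + 1 + 1 by ring, Finset.sum_range_succ, Finset.sum_range_succ, ih,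
      if_pos (even_two_mul n), if_neg (by simp [parity_simps])]
    ring

namespace DSylow

variable {P : Sylow 2 G} {σ τ : G} {q : ℕ} (D : DSylow P σ τ q)
  {O : Subgroup G} (hodd : Odd (Nat.card O))
  (hn : ∀ p ∈ (P : Subgroup G), ∀ u ∈ O, p * u * p⁻¹ ∈ O)
include D hodd hn

/-- The pair count for an even power of `σ`. -/
theorem card_pairs_even {l : ℕ} (hl : Even l) :
    Nat.card {w : G × G // w.1 * w.1 = 1 ∧ IsRefl (σ := σ) (τ := τ) (q := q) O w.1 ∧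
        w.2 * w.2 = 1 ∧ (σ ^ l)⁻¹ * (w.1 * w.2) ∈ O} =
      q * (cosetInv O τ ^ 2 + cosetInv O (σ * τ) ^ 2) := by
  rw [D.card_pairs hodd hn l, ← sum_range_parity]
  refine Finset.sum_congr rfl fun k _ => ?_
  rw [D.cosetInv_refl hn, D.cosetInv_refl hn]
  by_cases hk : Even k
  · rw [if_pos hk, if_pos (hk.add hl), if_pos hk, pow_two]
  · rw [if_neg hk, if_neg (fun h => hk ((Nat.even_add.1 h).2 hl)), if_neg hk, pow_two]

/-- The pair count for an odd power of `σ`. -/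
theorem card_pairs_odd {l : ℕ} (hl : ¬ Even l) :
    Nat.card {w : G × G // w.1 * w.1 = 1 ∧ IsRefl (σ := σ) (τ := τ) (q := q) O w.1 ∧
        w.2 * w.2 = 1 ∧ (σ ^ l)⁻¹ * (w.1 * w.2) ∈ O} =
      2 * q * (cosetInv O τ * cosetInv O (σ * τ)) := by
  rw [D.card_pairs hodd hn l]
  refine (Finset.sum_congr rfl fun k _ => ?_).trans (by rw [Finset.sum_const, Finset.card_range,
    smul_eq_mul])
  rw [D.cosetInv_refl hn, D.cosetInv_refl hn]
  by_cases hk : Even k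
  · rw [if_pos hk, if_neg (fun h => hl ((Nat.even_add.1 h).1 hk))]
  · rw [if_neg hk, if_pos (Nat.even_add.2 ⟨fun h => absurd h hk, fun h => absurd h hl⟩), mul_comm]

end DSylow

end Cfsg.Agent.Lib.DihedralBlock
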