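import Cfsg.Agent.S0071
import Cfsg.Agent.Lib.Blocks.Covering
import Cfsg.Agent.Lib.Blocks.PPart
import Cfsg.Agent.Lib.PSolvable.Core
import Cfsg.Prelude.Def_Blocks
import Mathlib

/-!
# A dihedral Sylow 2-subgroup: centralisers of its rotations

`P` is generated by a rotation `σ` of order `2q` and a reflection `τ`. The centraliser of every
non-trivial rotation has a normal 2-complement, and two rotations are conjugate only if they are
equal or inverse.
-/

set_option autoImplicit false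
set_option linter.unusedSectionVars false

namespace Cfsg.Agent.Lib.DihedralBlock

open Subgroup
open Cfsg
open Cfsg.Agent.Lib

/-- `P` is dihedral of order `4q` with rotation `σ` and reflection `τ`. -/
structure DSylow {G : Type*} [Group G] (P : Sylow 2 G) (σ τ : G) (q : ℕ) : Prop where
  two_le : 2 ≤ q
  isPow : ∃ e, q = 2 ^ e
  σ_mem : σ ∈ (P : Subgroup G)
  τ_mem : τ ∈ (P : Subgroup G)
  orderσ : orderOf σ = 2 * q
  ττ : τ * τ = 1
  rel : τ * σ * τ = σ⁻¹
  decomp : ∀ y ∈ (P : Subgroup G), y ∈ zpowers σ ∨ τ * y ∈ zpowers σ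
  τ_notMem : τ ∉ zpowers σ
  card : Nat.card (P : Subgroup G) = 4 * q

/-- The odd core of the centraliser of `x`. -/
noncomputable abbrev oc {G : Type*} [Group G] (x : G) : Subgroup G := centralizerPPrimeCore 2 x

namespace DSylow

variable {G : Type*} [Group G] [Finite G] {P : Sylow 2 G} {σ τ : G} {q : ℕ} (D : DSylow P σ τ q)
include D

theorem rot_le : zpowers σ ≤ (P : Subgroup G) := zpowers_le.2 D.σ_mem

theorem even_q : 2 ∣ q := by
  obtain ⟨e, rfl⟩ := D.isPow
  rcases e with _ | e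
  · exact absurd D.two_le (by norm_num)
  · exact dvd_pow_self 2 (by omega)

theorem q_pos : 0 < q := by have := D.two_le; omega

theorem inverts {z : G} (hz : z ∈ zpowers σ) : τ * z * τ = z⁻¹ := by
  obtain ⟨i, rfl⟩ := hz
  have ht : τ⁻¹ = τ := inv_eq_of_mul_eq_one_right D.ττ
  have h : (τ * σ * τ⁻¹) ^ i = (σ⁻¹) ^ i := by rw [ht, D.rel]
  rw [conj_zpow, ht, inv_zpow] at h
  exact h

theorem commute_zpowers {y z : G} (hy : y ∈ zpowers σ) (hz : z ∈ zpowers σ) : y * z = z * y := by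
  obtain ⟨i, rfl⟩ := hy
  obtain ⟨j, rfl⟩ := hz
  exact (Commute.refl σ).zpow_zpow i j

theorem eq_tau_mul (y : G) : y = τ * (τ * y) := by rw [← mul_assoc, D.ττ, one_mul]

theorem refl_sq {y : G} (hy : τ * y ∈ zpowers σ) : y * y = 1 := by
  rw [D.eq_tau_mul y,
    show τ * (τ * y) * (τ * (τ * y)) = τ * (τ * y) * τ * (τ * y) by group,
    D.inverts hy, inv_mul_cancel]

theorem refl_conj {y z : G} (hy : τ * y ∈ zpowers σ) (hz : z ∈ zpowers σ) :
    y * z * y⁻¹ = z⁻¹ := by
  rw [inv_eq_of_mul_eq_one_right (D.refl_sq hy)]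
  calc y * z * y = τ * (τ * y) * z * (τ * (τ * y)) := by rw [← D.eq_tau_mul y]
    _ = τ * ((τ * y) * z) * τ * (τ * y) := by group
    _ = z⁻¹ := by
      rw [D.inverts (mul_mem hy hz), _root_.mul_inv_rev, inv_mul_cancel_right]

theorem conj_cases {y z : G} (hy : y ∈ (P : Subgroup G)) (hz : z ∈ zpowers σ) :
    y * z * y⁻¹ = z ∨ y * z * y⁻¹ = z⁻¹ := by
  rcases D.decomp y hy with h | h
  · left
    rw [D.commute_zpowers h hz, mul_inv_cancel_right]
  · exact Or.inr (D.refl_conj h hz)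

theorem mem_of_sq_ne {y : G} (hy : y ∈ (P : Subgroup G)) (h2 : y * y ≠ 1) : y ∈ zpowers σ :=
  (D.decomp y hy).resolve_right fun h => h2 (D.refl_sq h)

theorem mem_of_commute {y z : G} (hy : y ∈ (P : Subgroup G)) (hz : z ∈ zpowers σ)
    (h2 : z * z ≠ 1) (hc : y * z = z * y) : y ∈ zpowers σ := by
  refine (D.decomp y hy).resolve_right fun h => h2 ?_
  have h' := D.refl_conj h hz
  rw [hc, mul_inv_cancel_right] at h'
  exact mul_eq_one_iff_eq_inv.2 h'

/-- The central involution. -/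
abbrev J (_D : DSylow P σ τ q) : G := σ ^ q

theorem J_mem : D.J ∈ zpowers σ := pow_mem (mem_zpowers σ) q

theorem JJ : D.J * D.J = 1 := by
  rw [← pow_add, ← two_mul, ← D.orderσ, pow_orderOf_eq_one]

theorem J_ne : D.J ≠ 1 := fun h => by
  have := Nat.le_of_dvd D.q_pos (orderOf_dvd_of_pow_eq_one h)
  rw [D.orderσ] at this
  have := D.q_pos
  omega

theorem sq_eq_one_iff {z : G} (hz : z ∈ zpowers σ) : z * z = 1 ↔ z = 1 ∨ z = D.J := by
  constructor
  · intro h
    obtain ⟨i, rfl⟩ := mem_zpowers_iff.1 hz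
    rw [← zpow_add] at h
    have hd := orderOf_dvd_iff_zpow_eq_one.2 h
    rw [D.orderσ] at hd
    push_cast at hd
    rw [← two_mul] at hd
    obtain ⟨c, hc⟩ := (mul_dvd_mul_iff_left (two_ne_zero' ℤ)).1 hd
    subst hc
    rw [zpow_mul, zpow_natCast]
    rcases Int.even_or_odd c with ⟨d, rfl⟩ | ⟨d, rfl⟩
    · left
      rw [← two_mul, zpow_mul, zpow_two, D.JJ, one_zpow]
    · right
      rw [zpow_add, zpow_one, zpow_mul, zpow_two, D.JJ, one_zpow, one_mul]
  · rintro (rfl | rfl)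
    exacts [one_mul 1, D.JJ]

theorem pow_sq_ne {z : G} (hz : z ∈ zpowers σ) (h1 : z ≠ 1) (hJ : z ≠ D.J) : z * z ≠ 1 :=
  fun h => ((D.sq_eq_one_iff hz).1 h).elim h1 hJ

theorem σ_sq_ne : σ * σ ≠ 1 := fun h => by
  have := orderOf_dvd_of_pow_eq_one (show σ ^ 2 = 1 by rw [pow_two, h])
  rw [D.orderσ] at this
  have := Nat.le_of_dvd (by norm_num) this
  have := D.two_le
  omega

theorem J_central {y : G} (hy : y ∈ (P : Subgroup G)) : y * D.J = D.J * y := by
  have hJi : D.J⁻¹ = D.J := inv_eq_of_mul_eq_one_right D.JJ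
  rcases D.conj_cases hy D.J_mem with h | h
  · calc y * D.J = y * D.J * y⁻¹ * y := by group
      _ = D.J * y := by rw [h]
  · calc y * D.J = y * D.J * y⁻¹ * y := by group
      _ = D.J * y := by rw [h, hJi]

theorem P_le_centralizer_J : (P : Subgroup G) ≤ centralizer ({D.J} : Set G) := fun _ hy =>
  mem_centralizer_singleton_iff.2 (D.J_central hy)

theorem zpowers_le_centralizer {z : G} (hz : z ∈ zpowers σ) :
    zpowers σ ≤ centralizer ({z} : Set G) := fun _ hy =>
  mem_centralizer_singleton_iff.2 (D.commute_zpowers hy hz)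

/-- A rotation has 2-power order. -/
theorem exists_order_pow {z : G} (hz : z ∈ (P : Subgroup G)) : ∃ k : ℕ, orderOf z = 2 ^ k := by
  obtain ⟨e, he⟩ := D.isPow
  have h : orderOf z ∣ 2 ^ (e + 2) := by
    rw [pow_add, ← he, show q * 2 ^ 2 = Nat.card (P : Subgroup G) by rw [D.card]; ring]
    rw [← orderOf_mk z hz]
    exact orderOf_dvd_natCard _
  obtain ⟨k, -, hk⟩ := (Nat.dvd_prime_pow Nat.prime_two).1 h
  exact ⟨k, hk⟩

theorem exists_conj_mem {Q : Subgroup G} (hQ : IsPGroup 2 Q) :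
    ∃ g : G, ∀ y ∈ Q, g * y * g⁻¹ ∈ (P : Subgroup G) := by
  haveI : Fact (Nat.Prime 2) := ⟨Nat.prime_two⟩
  obtain ⟨Q', hQ'⟩ := hQ.exists_le_sylow
  obtain ⟨g, hg⟩ := MulAction.exists_smul_eq G Q' P
  refine ⟨g, fun y hy => ?_⟩
  rw [← hg, Sylow.coe_subgroup_smul]
  exact Subgroup.smul_mem_pointwise_smul _ _ _ (hQ' hy)

/-- The rotations are a Sylow subgroup of the centraliser of a rotation of order at least 4. -/
theorem eq_zpowers {z : G} (hz : z ∈ zpowers σ) (h2 : z * z ≠ 1) {Q : Subgroup G}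
    (hQ : IsPGroup 2 Q) (hσQ : σ ∈ Q) (hQz : ∀ y ∈ Q, y * z = z * y) : Q = zpowers σ := by
  have hle : zpowers σ ≤ Q := Subgroup.zpowers_le.2 hσQ
  obtain ⟨g, hg⟩ := D.exists_conj_mem hQ
  have hinj : ∀ {y : G}, g * y * g⁻¹ * (g * y * g⁻¹) = 1 → y * y = 1 := by
    intro y h
    rw [show g * y * g⁻¹ * (g * y * g⁻¹) = g * (y * y) * g⁻¹ by group, conj_eq_one_iff] at h
    exact h
  have hσ' : g * σ * g⁻¹ ∈ zpowers σ :=
    D.mem_of_sq_ne (hg σ hσQ) fun h => D.σ_sq_ne (hinj h)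
  have hz' : g * z * g⁻¹ ∈ zpowers σ := by
    obtain ⟨i, rfl⟩ := mem_zpowers_iff.1 hz
    rw [← conj_zpow]
    exact zpow_mem hσ' i
  have hmap : Q.map (MulAut.conj g).toMonoidHom ≤ zpowers σ := by
    rintro _ ⟨y, hy, rfl⟩
    refine D.mem_of_commute (hg y hy) hz' (fun h => h2 (hinj h)) ?_
    show g * y * g⁻¹ * (g * z * g⁻¹) = g * z * g⁻¹ * (g * y * g⁻¹)
    calc g * y * g⁻¹ * (g * z * g⁻¹) = g * (y * z) * g⁻¹ := by group
      _ = g * (z * y) * g⁻¹ := by rw [hQz y hy]
      _ = _ := by group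
  refine (Subgroup.eq_of_le_of_card_ge hle ?_).symm
  rw [← Subgroup.card_map_of_injective (K := Q) (f := (MulAut.conj g).toMonoidHom)
    (MulAut.conj g).injective]
  exact Subgroup.card_le_of_le hmap

/-- A normaliser of a rotation subgroup of odd order centralises it, so rotations are conjugate
only if equal or inverse. -/
theorem fusion {z g : G} (hz : z ∈ zpowers σ) (h2 : z * z ≠ 1)
    (hgz : g * z * g⁻¹ ∈ zpowers σ) : g * z * g⁻¹ = z ∨ g * z * g⁻¹ = z⁻¹ := by
  classical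
  haveI : Fact (Nat.Prime 2) := ⟨Nat.prime_two⟩
  set z' := g * z * g⁻¹ with hz'
  have h2' : z' * z' ≠ 1 := by
    intro h
    rw [hz', show g * z * g⁻¹ * (g * z * g⁻¹) = g * (z * z) * g⁻¹ by group, conj_eq_one_iff] at h
    exact h2 h
  let C := centralizer ({z'} : Set G)
  let A : Subgroup C := (zpowers σ).subgroupOf C
  have hAle : zpowers σ ≤ C := D.zpowers_le_centralizer hgz
  let B : Subgroup G := (zpowers σ).map (MulAut.conj g).toMonoidHom
  have hBle : B ≤ C := by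
    rintro _ ⟨y, hy, rfl⟩
    refine mem_centralizer_singleton_iff.2 ?_
    show g * y * g⁻¹ * z' = z' * (g * y * g⁻¹)
    rw [hz']
    calc g * y * g⁻¹ * (g * z * g⁻¹) = g * (y * z) * g⁻¹ := by group
      _ = g * (z * y) * g⁻¹ := by rw [D.commute_zpowers hy hz]
      _ = _ := by group
  have hPσ : IsPGroup 2 (zpowers σ) := P.2.to_le D.rot_le
  have hpA : IsPGroup 2 A := hPσ.comap_subtype
  obtain ⟨Q, hQ⟩ := hpA.exists_le_sylow
  have hQeq : (Q : Subgroup C).map C.subtype = zpowers σ := by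
    refine D.eq_zpowers hgz h2' (Q.2.map C.subtype)
      ⟨⟨σ, hAle (mem_zpowers σ)⟩, hQ (show σ ∈ zpowers σ from mem_zpowers σ), rfl⟩ ?_
    rintro _ ⟨y, -, rfl⟩
    exact mem_centralizer_singleton_iff.1 y.2
  have hpB : IsPGroup 2 (B.subgroupOf C) := (hPσ.map _).comap_subtype
  obtain ⟨R, hR⟩ := hpB.exists_le_sylow
  obtain ⟨c, hc⟩ := MulAction.exists_smul_eq C R Q
  -- y normalises the rotations
  set y := (c : G) * g with hy
  have hyz : y * z * y⁻¹ = z' := by
    have hcz : (c : G) * z' = z' * c := mem_centralizer_singleton_iff.1 c.2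
    calc y * z * y⁻¹ = (c : G) * z' * (c : G)⁻¹ := by rw [hy, hz']; group
      _ = z' := by rw [hcz, mul_inv_cancel_right]
  have hyN : ∀ w ∈ zpowers σ, y * w * y⁻¹ ∈ zpowers σ := by
    intro w hw
    have hwB : g * w * g⁻¹ ∈ B := ⟨w, hw, rfl⟩
    have h1 : c * ⟨g * w * g⁻¹, hBle hwB⟩ * c⁻¹ ∈ (Q : Subgroup C) := by
      rw [← hc, Sylow.coe_subgroup_smul]
      exact Subgroup.smul_mem_pointwise_smul _ _ _ (hR (show g * w * g⁻¹ ∈ B from hwB))
    rw [← hQeq, show y * w * y⁻¹ = (c : G) * (g * w * g⁻¹) * (c : G)⁻¹ by rw [hy]; group]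
    exact ⟨_, h1, rfl⟩
  let N := normalizer ((zpowers σ : Subgroup G) : Set G)
  have hyN' : y ∈ N := by
    rw [mem_normalizer_iff]
    intro w
    refine ⟨hyN w, fun hw => ?_⟩
    have hmap : (zpowers σ).map (MulAut.conj y).toMonoidHom = zpowers σ := by
      refine Subgroup.eq_of_le_of_card_ge ?_ (Subgroup.card_map_of_injective (f := (MulAut.conj y).toMonoidHom) (MulAut.conj y).injective).ge
      rintro _ ⟨v, hv, rfl⟩
      exact hyN v hv
    rw [← hmap] at hw
    obtain ⟨v, hv, hvw⟩ := hw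
    rwa [← (MulAut.conj y).injective (show MulAut.conj y v = MulAut.conj y w from hvw)]
  let φ := (zpowers σ).normalizerMonoidHom
  let y' : N := ⟨y, hyN'⟩
  obtain ⟨u, hu⟩ := Blocks.exists_isPPart (p := 2) y'
  obtain ⟨v, huv, -, hu2, hv⟩ := hu
  have hcyc : IsCyclic (zpowers σ) := inferInstance
  have hautcard : Nat.card (MulAut (zpowers σ)) = q := by
    rw [hcyc.card_mulAut, Nat.card_zpowers, D.orderσ]
    obtain ⟨e, rfl⟩ := D.isPow
    rw [← pow_succ', Nat.totient_prime_pow Nat.prime_two (by omega)]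
    simp
  have hφv : φ v = 1 := by
    rw [← orderOf_eq_one_iff]
    refine Nat.eq_one_of_dvd_coprimes (a := orderOf v) (b := q) ?_ (orderOf_map_dvd φ v)
      (hautcard ▸ orderOf_dvd_natCard (φ v))
    obtain ⟨e, rfl⟩ := D.isPow
    exact Nat.Coprime.pow_right e (Nat.prime_two.coprime_iff_not_dvd.2 hv).symm
  -- u is conjugate in N to an element of P, and the automorphism group is abelian
  have hPN : (P : Subgroup G) ≤ N := by
    intro x hx
    rw [mem_normalizer_iff]
    intro w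
    have key : ∀ x ∈ (P : Subgroup G), ∀ w ∈ zpowers σ, x * w * x⁻¹ ∈ zpowers σ := by
      intro x hx w hw
      rcases D.conj_cases hx hw with h | h <;> rw [h]
      exacts [hw, inv_mem hw]
    refine ⟨key x hx w, fun h => ?_⟩
    have := key x⁻¹ (inv_mem hx) _ h
    simpa [mul_assoc] using this
  let PN : Sylow 2 N := P.subtype hPN
  obtain ⟨k, hk⟩ := hu2
  obtain ⟨S, hS⟩ := (IsPGroup.of_card (p := 2) (n := k) (G := zpowers u)
    (by rw [Nat.card_zpowers, hk])).exists_le_sylow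
  obtain ⟨h, hh⟩ := MulAction.exists_smul_eq N S PN
  have huP : ((h * u * h⁻¹ : N) : G) ∈ (P : Subgroup G) := by
    have : h * u * h⁻¹ ∈ (PN : Subgroup N) := by
      rw [← hh, Sylow.coe_subgroup_smul]
      exact Subgroup.smul_mem_pointwise_smul _ _ _ (hS (mem_zpowers u))
    exact this
  have hφ : φ (h * u * h⁻¹) = φ y' := by
    have hcomm : ∀ a b : MulAut (zpowers σ), a * b = b * a := by
      intro a b
      obtain ⟨i, hi⟩ := MonoidHom.map_cyclic a.toMonoidHom
      obtain ⟨j, hj⟩ := MonoidHom.map_cyclic b.toMonoidHom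
      ext x
      simp only [MulEquiv.coe_toMonoidHom] at hi hj
      simp only [MulAut.mul_apply, hi, hj, ← zpow_mul, mul_comm i j]
    rw [← huv, map_mul φ u v, hφv, mul_one, map_mul, map_mul, hcomm (φ h) (φ u), mul_assoc,
      ← map_mul φ h, mul_inv_cancel, map_one, mul_one]
  have hact : ((h * u * h⁻¹ : N) : G) * z * ((h * u * h⁻¹ : N) : G)⁻¹ = z' := by
    have := congrArg (fun a : MulAut (zpowers σ) => ((a ⟨z, hz⟩ : zpowers σ) : G)) hφ
    exact this.trans hyz
  rw [← hact]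
  exact D.conj_cases huP hz

end DSylow

end Cfsg.Agent.Lib.DihedralBlock
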